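import Groth.Agent.G0Patch.BLGlue
import Mathlib.AlgebraicGeometry.Morphisms.Flat
import Mathlib.AlgebraicGeometry.Pullbacks
import Mathlib.RingTheory.Flat.Basic

/-!
# Beauville-Laszlo gluing of morphisms out of flat schemes
-/

set_option autoImplicit false

universe u

open CategoryTheory Limits AlgebraicGeometry
open scoped TensorProduct

noncomputable section

namespace Groth.Agent.G0Patch

variable {A A' : Type u} [CommRing A] [CommRing A'] (φ : A →+* A') (t : A)

/-- The hypotheses of the glueing set-up. -/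
structure BLData : Prop where
  hq : ∀ m : ℕ, Function.Bijective (Ideal.quotientMap (Ideal.map φ (Ideal.span {t} ^ m)) φ Ideal.le_comap_map)
  htor : ∀ a' : A', (∃ m : ℕ, φ t ^ m * a' = 0) → ∃! a : A, (∃ m : ℕ, t ^ m * a = 0) ∧ φ a = a'

namespace BLData

variable {φ t}

/-- Flat algebras inherit the glueing set-up. -/
theorem pair (D : BLData φ t) (B : Type u) [CommRing B] [Algebra A B] [Module.Flat A B] :
    letI := φ.toAlgebra
    BLPair (Algebra.TensorProduct.includeLeftRingHom : B →+* B ⊗[A] A') (algebraMap A B t) := by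
  letI := φ.toAlgebra
  have hts : ∀ (N : ℕ) (p : B ⊗[A] A'),
      (Algebra.TensorProduct.includeLeftRingHom : B →+* B ⊗[A] A') (algebraMap A B t) ^ N * p = t ^ N • p := by
    intro N p
    rw [Algebra.smul_def, map_pow]
    rfl
  have hmem : ∀ (x : A) (N : ℕ), (∃ m, t ^ m * x = 0) → φ x = 0 → x = 0 := fun x _ hx hφ =>
    (D.htor 0 ⟨0, mul_zero _⟩).unique ⟨hx, hφ⟩ ⟨⟨0, mul_zero _⟩, map_zero φ⟩
  refine ⟨fun c N hc hs => ?_, fun p N hp => ?_, fun N => ?_, fun N p => ?_⟩
  · let K := LinearMap.ker (LinearMap.lsmul A A (t ^ N))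
    let g : K →ₗ[A] A' := (Algebra.linearMap A A').comp K.subtype
    have hg : Function.Injective g := by
      intro x y h
      refine Subtype.ext (sub_eq_zero.mp (hmem _ N ⟨N, ?_⟩ ?_))
      · have hx : t ^ N * (x : A) = 0 := x.2
        have hy : t ^ N * (y : A) = 0 := y.2
        rw [mul_sub, hx, hy, sub_zero]
      · rw [map_sub, sub_eq_zero]
        exact h
    have hex := Module.Flat.lTensor_exact (M := B)
      (LinearMap.exact_subtype_ker_map (LinearMap.lsmul A A (t ^ N)))
    have h0 : LinearMap.lTensor B (LinearMap.lsmul A A (t ^ N)) (c ⊗ₜ[A] (1 : A)) = 0 := by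
      rw [LinearMap.lTensor_tmul, LinearMap.lsmul_apply, TensorProduct.tmul_smul, TensorProduct.smul_tmul',
        Algebra.smul_def, map_pow, hs, TensorProduct.zero_tmul]
    obtain ⟨z, hz⟩ := (hex _).mp h0
    have h1 : LinearMap.lTensor B g z = 0 := by
      rw [LinearMap.lTensor_comp, LinearMap.comp_apply, hz, LinearMap.lTensor_tmul, Algebra.linearMap_apply, map_one]
      exact hc
    have h2 : z = 0 := Module.Flat.lTensor_preserves_injective_linearMap g hg (h1.trans (map_zero _).symm)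
    rw [h2, map_zero] at hz
    simpa using congrArg (TensorProduct.rid A B) hz.symm
  · let K := LinearMap.ker (LinearMap.lsmul A A' (t ^ N))
    have hex := Module.Flat.lTensor_exact (M := B) (LinearMap.exact_subtype_ker_map (LinearMap.lsmul A A' (t ^ N)))
    have h0 : LinearMap.lTensor B (LinearMap.lsmul A A' (t ^ N)) p = 0 := by
      rw [hts] at hp
      refine Eq.trans ?_ hp
      clear hp
      induction p using TensorProduct.induction_on with
      | zero => simp
      | tmul b x => rw [LinearMap.lTensor_tmul, LinearMap.lsmul_apply, TensorProduct.tmul_smul]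
      | add x y hx hy => rw [map_add, hx, hy, smul_add]
    obtain ⟨z, rfl⟩ := (hex p).mp h0
    clear hp h0
    induction z using TensorProduct.induction_on with
    | zero => exact ⟨0, by rw [map_zero, map_zero], mul_zero _⟩
    | tmul b τ =>
      have hτ : φ t ^ N * (τ : A') = 0 := by
        have h : t ^ N • (τ : A') = 0 := τ.2
        rwa [Algebra.smul_def, map_pow] at h
      obtain ⟨x, ⟨⟨M, hM⟩, hx⟩, -⟩ := D.htor τ ⟨N, hτ⟩
      have hxN : t ^ N * x = 0 := hmem _ N ⟨M, by rw [mul_left_comm, hM, mul_zero]⟩ (by rw [map_mul, map_pow, hx, hτ])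
      refine ⟨b * algebraMap A B x, ?_, ?_⟩
      · rw [LinearMap.lTensor_tmul, mul_comm, ← Algebra.smul_def]
        show (x • b) ⊗ₜ[A] (1 : A') = b ⊗ₜ[A] (τ : A')
        rw [TensorProduct.smul_tmul, Algebra.smul_def, mul_one]
        exact congrArg (b ⊗ₜ[A] ·) hx
      · rw [mul_left_comm, ← map_pow, ← map_mul, hxN, map_zero, mul_zero]
    | add z z' hz hz' =>
      obtain ⟨c, hc, hc0⟩ := hz
      obtain ⟨c', hc', hc0'⟩ := hz'
      exact ⟨c + c', by rw [map_add, map_add, hc, hc'], by rw [mul_add, hc0, hc0', add_zero]⟩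
  · let e := RingEquiv.ofBijective _ (D.hq N)
    let g : A ⧸ Ideal.span {t} ^ N →+* B ⧸ Ideal.span {algebraMap A B t ^ N} :=
      Ideal.quotientMap _ (algebraMap A B) (by
        rw [Ideal.span_singleton_pow, Ideal.span_singleton_le_iff_mem, Ideal.mem_comap, map_pow]
        exact Ideal.mem_span_singleton_self _)
    let σ : A' →ₐ[A] B ⧸ Ideal.span {algebraMap A B t ^ N} :=
      { toRingHom := g.comp (e.symm.toRingHom.comp (Ideal.Quotient.mk _))
        commutes' := fun x => by
          show g (e.symm (Ideal.Quotient.mk _ (φ x))) = _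
          have he : Ideal.Quotient.mk (Ideal.map φ (Ideal.span {t} ^ N)) (φ x) =
            e (Ideal.Quotient.mk (Ideal.span {t} ^ N) x) := rfl
          rw [he, RingEquiv.symm_apply_apply]
          rfl }
    refine ⟨(Algebra.TensorProduct.lift (Ideal.Quotient.mkₐ A (Ideal.span {algebraMap A B t ^ N})) σ
      fun _ _ => Commute.all _ _).toRingHom, RingHom.ext fun b => ?_⟩
    show Algebra.TensorProduct.lift (Ideal.Quotient.mkₐ A (Ideal.span {algebraMap A B t ^ N})) σ
      (fun _ _ => Commute.all _ _) (b ⊗ₜ[A] (1 : A')) = _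
    rw [Algebra.TensorProduct.lift_tmul, map_one, mul_one]
    rfl
  · simp only [hts]
    induction p using TensorProduct.induction_on with
    | zero => exact ⟨0, 0, by rw [map_zero, smul_zero, add_zero]⟩
    | tmul b x =>
      obtain ⟨q, hq⟩ := (D.hq N).2 (Ideal.Quotient.mk _ x)
      obtain ⟨y, rfl⟩ := Ideal.Quotient.mk_surjective q
      rw [Ideal.quotientMap_mk, Ideal.Quotient.eq, Ideal.span_singleton_pow, Ideal.map_span, Set.image_singleton,
        Ideal.mem_span_singleton'] at hq
      obtain ⟨η, hη⟩ := hq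
      refine ⟨y • b, b ⊗ₜ[A] (-η), ?_⟩
      show b ⊗ₜ[A] x = (y • b) ⊗ₜ[A] (1 : A') + t ^ N • (b ⊗ₜ[A] (-η))
      rw [TensorProduct.smul_tmul, ← TensorProduct.tmul_smul, ← TensorProduct.tmul_add]
      refine congrArg (b ⊗ₜ[A] ·) ?_
      rw [Algebra.smul_def, Algebra.smul_def, show (algebraMap A A') y = φ y from rfl,
        show (algebraMap A A') (t ^ N) = φ (t ^ N) from rfl]
      linear_combination hη
    | add p p' hp hp' =>
      obtain ⟨β, η, rfl⟩ := hp
      obtain ⟨β', η', rfl⟩ := hp'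
      exact ⟨β + β', η + η', by rw [map_add, smul_add]; abel⟩

/-! ### Morphisms out of flat schemes -/

/-- The open part. -/
abbrev jt (t : A) : Spec (CommRingCat.of (Localization.Away t)) ⟶ Spec (CommRingCat.of A) :=
  sp (algebraMap A (Localization.Away t))

theorem affine_split (D : BLData φ t) {B : CommRingCat.{u}} (q : Spec B ⟶ Spec (CommRingCat.of A)) [Flat q] :
    ∃ (P : Type u) (_ : CommRing P) (ψ : B →+* P) (iP : Spec (CommRingCat.of P) ⟶ Spec (CommRingCat.of A')) (s : B),
      BLPair ψ s ∧ sp ψ ≫ q = iP ≫ sp φ ∧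
      (∃ iQ : Spec (CommRingCat.of (Localization.Away s)) ⟶ Spec (CommRingCat.of (Localization.Away t)),
        sp (algebraMap B (Localization.Away s)) ≫ q = iQ ≫ jt t ∧
        ∃ i₀ : Spec (CommRingCat.of (Localization.Away (ψ s))) ⟶ Spec (CommRingCat.of (Localization.Away (φ t))),
          sp (algebraMap P (Localization.Away (ψ s))) ≫ iP = i₀ ≫ sp (algebraMap A' (Localization.Away (φ t))) ∧
          sp (Localization.awayMap ψ s) ≫ iQ = i₀ ≫ sp (Localization.awayMap φ t)) ∧
      (∀ {Z : Scheme.{u}} (k : Z ⟶ Spec B) (z : Z ⟶ Spec (CommRingCat.of A')), k ≫ q = z ≫ sp φ →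
        ∃ l : Z ⟶ Spec (CommRingCat.of P), l ≫ sp ψ = k ∧ l ≫ iP = z) ∧
      (∀ {Z : Scheme.{u}} (k : Z ⟶ Spec B) (z : Z ⟶ Spec (CommRingCat.of (Localization.Away t))), k ≫ q = z ≫ jt t →
        ∃ l : Z ⟶ Spec (CommRingCat.of (Localization.Away s)), l ≫ sp (algebraMap B (Localization.Away s)) = k) := by
  letI := φ.toAlgebra
  letI : Algebra A B := (Spec.preimage q).hom.toAlgebra
  have hq : sp (algebraMap A B) = q := Spec.map_preimage q
  have : Module.Flat A B := by
    have h : Flat (Spec.map (Spec.preimage q)) := by rw [Spec.map_preimage]; infer_instance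
    exact (HasRingHomProperty.Spec_iff (P := @Flat)).mp h
  let ψ : B →+* B ⊗[A] A' := Algebra.TensorProduct.includeLeftRingHom
  let iR : A' →+* B ⊗[A] A' := (Algebra.TensorProduct.includeRight : A' →ₐ[A] B ⊗[A] A').toRingHom
  let s := algebraMap A B t
  have hψ : ψ.comp (algebraMap A B) = iR.comp φ := RingHom.ext fun x =>
    ((Algebra.TensorProduct.includeRight : A' →ₐ[A] B ⊗[A] A').commutes x).symm
  let w : Localization.Away (φ t) →+* Localization.Away (ψ s) :=
    IsLocalization.Away.lift (φ t) (g := (algebraMap (B ⊗[A] A') (Localization.Away (ψ s))).comp iR) (by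
      rw [RingHom.comp_apply, show iR (φ t) = ψ s from (DFunLike.congr_fun hψ t).symm]
      exact IsLocalization.Away.algebraMap_isUnit _)
  refine ⟨B ⊗[A] A', inferInstance, ψ, sp iR, s, D.pair B, ?_, ⟨sp (Localization.awayMap (algebraMap A B) t), ?_,
    sp w, ?_, ?_⟩, fun {Z} k z hkz => ?_, fun {Z} k z hkz => ?_⟩
  · rw [← hq, ← Spec.map_comp, ← Spec.map_comp, ← CommRingCat.ofHom_comp, ← CommRingCat.ofHom_comp]
    exact congrArg (fun m => Spec.map (CommRingCat.ofHom m)) hψ
  · rw [← hq, ← Spec.map_comp, ← Spec.map_comp, ← CommRingCat.ofHom_comp, ← CommRingCat.ofHom_comp]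
    exact congrArg (fun m => Spec.map (CommRingCat.ofHom m)) (locMap_comp' (algebraMap A B) t).symm
  · rw [← Spec.map_comp, ← Spec.map_comp, ← CommRingCat.ofHom_comp, ← CommRingCat.ofHom_comp]
    exact congrArg (fun m => Spec.map (CommRingCat.ofHom m)) (IsLocalization.Away.lift_comp (φ t) _).symm
  · rw [← Spec.map_comp, ← Spec.map_comp, ← CommRingCat.ofHom_comp, ← CommRingCat.ofHom_comp]
    refine congrArg (fun m => Spec.map (CommRingCat.ofHom m)) (IsLocalization.ringHom_ext (Submonoid.powers t) ?_)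
    rw [RingHom.comp_assoc, locMap_comp', ← RingHom.comp_assoc, locMap_comp', RingHom.comp_assoc, hψ,
      RingHom.comp_assoc, locMap_comp']
    have hw : w.comp (algebraMap A' (Localization.Away (φ t))) =
        (algebraMap (B ⊗[A] A') (Localization.Away (ψ s))).comp iR := IsLocalization.Away.lift_comp _ _
    rw [← RingHom.comp_assoc, ← hw, RingHom.comp_assoc]
  · refine ⟨pullback.lift k z (by rw [← hq] at hkz; exact hkz) ≫ (pullbackSpecIso A B A').hom, ?_, ?_⟩
    · rw [Category.assoc]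
      erw [pullbackSpecIso_hom_fst]
      exact pullback.lift_fst _ _ _
    · rw [Category.assoc]
      erw [pullbackSpecIso_hom_snd]
      exact pullback.lift_snd _ _ _
  · have : IsOpenImmersion (sp (algebraMap B (Localization.Away s))) := IsOpenImmersion.of_isLocalization s
    refine ⟨IsOpenImmersion.lift (sp (algebraMap B (Localization.Away s))) k ?_, IsOpenImmersion.lift_fac _ _ _⟩
    rintro _ ⟨q', rfl⟩
    refine (Set.ext_iff.mp (PrimeSpectrum.localization_away_comap_range (Localization.Away s) s) _).mpr ?_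
    have e := congrArg (fun m => m.base q') hkz
    rw [← hq] at e
    show t ∉ ((sp (algebraMap A B)).base (k.base q')).asIdeal
    have e' : (sp (algebraMap A B)).base (k.base q') = (jt t).base (z.base q') := e
    rw [e']
    exact (Set.ext_iff.mp (PrimeSpectrum.localization_away_comap_range (Localization.Away t) t) _).mp ⟨_, rfl⟩

/-- The cover of a scheme by the spectra of affine neighbourhoods. -/
def affCover (X : Scheme.{u}) : X.OpenCover :=
  Scheme.Cover.mkOfCovers X
    (fun x => Spec Γ(X, (exists_isAffineOpen_mem_and_subset (x := x) (U := (⊤ : X.Opens)) trivial).choose))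
    (fun x => (exists_isAffineOpen_mem_and_subset (x := x) (U := (⊤ : X.Opens)) trivial).choose_spec.1.fromSpec)
    (fun x => by
      have h := (exists_isAffineOpen_mem_and_subset (x := x) (U := (⊤ : X.Opens)) trivial).choose_spec
      refine ⟨x, ?_⟩
      have hx : x ∈ Set.range h.1.fromSpec := by rw [h.1.range_fromSpec]; exact h.2.1
      exact hx)
    (fun x => (exists_isAffineOpen_mem_and_subset (x := x) (U := (⊤ : X.Opens)) trivial).choose_spec.1.isOpenImmersion_fromSpec)

theorem hom_ext_affine (D : BLData φ t) {B : CommRingCat.{u}} {X Y : Scheme.{u}} (f : X ⟶ Spec (CommRingCat.of A))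
    (j : Spec B ⟶ X) [Flat (j ≫ f)] (g₁ g₂ : X ⟶ Y)
    (hP : pullback.fst f (sp φ) ≫ g₁ = pullback.fst f (sp φ) ≫ g₂)
    (hQ : pullback.fst f (jt t) ≫ g₁ = pullback.fst f (jt t) ≫ g₂) : j ≫ g₁ = j ≫ g₂ := by
  obtain ⟨P, _, ψ, iP, s, H, hψ, ⟨iQ, hθ, -⟩, -, -⟩ := D.affine_split (j ≫ f)
  refine H.ext_pieces (𝟙 (Spec (CommRingCat.of B))) _ _ ?_ ?_
  · have e := congrArg (fun m => pullback.lift (sp ψ ≫ j) iP (by rw [Category.assoc]; exact hψ) ≫ m) hP
    simp only [pullback.lift_fst_assoc, Category.assoc] at e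
    have h1 : pullback.fst (𝟙 _) (sp ψ) = pullback.snd (𝟙 _) (sp ψ) ≫ sp ψ :=
      (Category.comp_id _).symm.trans pullback.condition
    rw [h1, Category.assoc, Category.assoc]
    exact congrArg (pullback.snd _ _ ≫ ·) e
  · have e := congrArg (fun m => pullback.lift (sp (algebraMap B (Localization.Away s)) ≫ j) iQ
      (by rw [Category.assoc]; exact hθ) ≫ m) hQ
    simp only [pullback.lift_fst_assoc, Category.assoc] at e
    have h1 : pullback.fst (𝟙 _) (sp (algebraMap B (Localization.Away s))) =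
        pullback.snd (𝟙 _) (sp (algebraMap B (Localization.Away s))) ≫ sp (algebraMap B (Localization.Away s)) :=
      (Category.comp_id _).symm.trans pullback.condition
    rw [h1, Category.assoc, Category.assoc]
    exact congrArg (pullback.snd _ _ ≫ ·) e

/-- Two morphisms out of a flat scheme agreeing on both pieces agree. -/
theorem hom_ext (D : BLData φ t) {X Y : Scheme.{u}} (f : X ⟶ Spec (CommRingCat.of A)) [Flat f] (g₁ g₂ : X ⟶ Y)
    (hP : pullback.fst f (sp φ) ≫ g₁ = pullback.fst f (sp φ) ≫ g₂)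
    (hQ : pullback.fst f (jt t) ≫ g₁ = pullback.fst f (jt t) ≫ g₂) : g₁ = g₂ := by
  refine (affCover X).hom_ext _ _ fun i => ?_
  have : IsOpenImmersion ((affCover X).f i) := (affCover X).map_prop i
  exact @hom_ext_affine _ _ _ _ φ t D _ X Y f ((affCover X).f i)
    (MorphismProperty.comp_mem _ _ _ (inferInstanceAs (Flat ((affCover X).f i))) ‹Flat f›) g₁ g₂ hP hQ

theorem exists_desc_affine (D : BLData φ t) {B : CommRingCat.{u}} {X Y : Scheme.{u}} (f : X ⟶ Spec (CommRingCat.of A))
    (j : Spec B ⟶ X) [Flat (j ≫ f)] (u : pullback f (sp φ) ⟶ Y) (h : pullback f (jt t) ⟶ Y)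
    (hc : ∀ {Z : Scheme.{u}} (z₁ : Z ⟶ pullback f (sp φ)) (z₂ : Z ⟶ pullback f (jt t))
      (w : Z ⟶ Spec (CommRingCat.of (Localization.Away (φ t)))),
      z₁ ≫ pullback.fst _ _ = z₂ ≫ pullback.fst _ _ →
      z₁ ≫ pullback.snd _ _ = w ≫ sp (algebraMap A' (Localization.Away (φ t))) →
      z₂ ≫ pullback.snd _ _ = w ≫ sp (Localization.awayMap φ t) → z₁ ≫ u = z₂ ≫ h) :
    ∃ g : Spec B ⟶ Y,
      (∀ {Z : Scheme.{u}} (k : Z ⟶ Spec B) (z : Z ⟶ Spec (CommRingCat.of A')) (e : (k ≫ j) ≫ f = z ≫ sp φ),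
        k ≫ g = pullback.lift (k ≫ j) z e ≫ u) ∧
      (∀ {Z : Scheme.{u}} (k : Z ⟶ Spec B) (z : Z ⟶ Spec (CommRingCat.of (Localization.Away t)))
        (e : (k ≫ j) ≫ f = z ≫ jt t), k ≫ g = pullback.lift (k ≫ j) z e ≫ h) := by
  have hmono : Mono (jt t) := by
    have : IsOpenImmersion (jt t) := IsOpenImmersion.of_isLocalization t
    infer_instance
  obtain ⟨P, _, ψ, iP, s, H, hψ, ⟨iQ, hθ, i₀, hP₀, hQ₀⟩, hlP, hlQ⟩ := D.affine_split (j ≫ f)
  let eP : Spec (CommRingCat.of P) ⟶ pullback f (sp φ) :=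
    pullback.lift (sp ψ ≫ j) iP (by rw [Category.assoc]; exact hψ)
  let eQ : Spec (CommRingCat.of (Localization.Away s)) ⟶ pullback f (jt t) :=
    pullback.lift (sp (algebraMap B (Localization.Away s)) ≫ j) iQ (by rw [Category.assoc]; exact hθ)
  obtain ⟨g, hg₁, hg₂⟩ := H.exists_glue (eP ≫ u) (eQ ≫ h) (by
    rw [← Category.assoc, ← Category.assoc]
    refine hc _ _ i₀ ?_ ?_ ?_
    · simp only [eP, eQ, Category.assoc, pullback.lift_fst]
      rw [← Spec.map_comp_assoc, ← Spec.map_comp_assoc, ← CommRingCat.ofHom_comp, ← CommRingCat.ofHom_comp,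
        BLPair.comm]
    · simp only [eP, Category.assoc, pullback.lift_snd]
      exact hP₀
    · simp only [eQ, Category.assoc, pullback.lift_snd]
      exact hQ₀)
  refine ⟨g, fun {Z} k z e => ?_, fun {Z} k z e => ?_⟩
  · obtain ⟨l, hl₁, hl₂⟩ := hlP k z ((Category.assoc _ _ _).symm.trans e)
    subst hl₁
    rw [Category.assoc, hg₁, ← Category.assoc]
    refine congrArg (· ≫ u) (pullback.hom_ext ?_ ?_)
    · simp only [eP, Category.assoc, pullback.lift_fst]
    · simp only [eP, Category.assoc, pullback.lift_snd, hl₂]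
  · obtain ⟨l, hl₁⟩ := hlQ k z ((Category.assoc _ _ _).symm.trans e)
    subst hl₁
    rw [Category.assoc, hg₂, ← Category.assoc]
    refine congrArg (· ≫ h) (pullback.hom_ext ?_ ?_)
    · simp only [eQ, Category.assoc, pullback.lift_fst]
    · simp only [eQ, Category.assoc, pullback.lift_snd]
      rw [← cancel_mono (jt t), Category.assoc, ← hθ, ← e, Category.assoc, Category.assoc]

/-- **Morphisms out of a flat scheme glue.** -/
theorem exists_desc (D : BLData φ t) {X Y : Scheme.{u}} (f : X ⟶ Spec (CommRingCat.of A)) [Flat f]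
    (u : pullback f (sp φ) ⟶ Y) (h : pullback f (jt t) ⟶ Y)
    (hc : ∀ {Z : Scheme.{u}} (z₁ : Z ⟶ pullback f (sp φ)) (z₂ : Z ⟶ pullback f (jt t))
      (w : Z ⟶ Spec (CommRingCat.of (Localization.Away (φ t)))),
      z₁ ≫ pullback.fst _ _ = z₂ ≫ pullback.fst _ _ →
      z₁ ≫ pullback.snd _ _ = w ≫ sp (algebraMap A' (Localization.Away (φ t))) →
      z₂ ≫ pullback.snd _ _ = w ≫ sp (Localization.awayMap φ t) → z₁ ≫ u = z₂ ≫ h) :
    ∃ g : X ⟶ Y, pullback.fst f (sp φ) ≫ g = u ∧ pullback.fst f (jt t) ≫ g = h := by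
  let 𝒰 := affCover X
  have hloc : ∀ i, ∃ g : 𝒰.X i ⟶ Y,
      (∀ {Z : Scheme.{u}} (k : Z ⟶ 𝒰.X i) (z : Z ⟶ Spec (CommRingCat.of A')) (e : (k ≫ 𝒰.f i) ≫ f = z ≫ sp φ),
        k ≫ g = pullback.lift (k ≫ 𝒰.f i) z e ≫ u) ∧
      (∀ {Z : Scheme.{u}} (k : Z ⟶ 𝒰.X i) (z : Z ⟶ Spec (CommRingCat.of (Localization.Away t)))
        (e : (k ≫ 𝒰.f i) ≫ f = z ≫ jt t), k ≫ g = pullback.lift (k ≫ 𝒰.f i) z e ≫ h) := by
    intro i
    have : IsOpenImmersion (𝒰.f i) := 𝒰.map_prop i
    exact @exists_desc_affine _ _ _ _ φ t D _ X Y f (𝒰.f i)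
      (MorphismProperty.comp_mem _ _ _ (inferInstanceAs (Flat (𝒰.f i))) ‹Flat f›) u h hc
  choose g hgP hgQ using hloc
  refine ⟨𝒰.glueMorphisms g fun i j => ?_, ?_, ?_⟩
  · let f' : pullback (𝒰.f i) (𝒰.f j) ⟶ Spec (CommRingCat.of A) := (pullback.fst _ _ ≫ 𝒰.f i) ≫ f
    have : Flat f' := inferInstance
    refine D.hom_ext f' _ _ ?_ ?_
    · have e : ((pullback.fst f' (sp φ) ≫ pullback.fst (𝒰.f i) (𝒰.f j)) ≫ 𝒰.f i) ≫ f =
          pullback.snd f' (sp φ) ≫ sp φ := by
        rw [Category.assoc, Category.assoc]; exact (congrArg (_ ≫ ·) (Category.assoc _ _ _).symm).trans pullback.condition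
      have e' : (pullback.fst f' (sp φ) ≫ pullback.snd (𝒰.f i) (𝒰.f j)) ≫ 𝒰.f j =
          (pullback.fst f' (sp φ) ≫ pullback.fst (𝒰.f i) (𝒰.f j)) ≫ 𝒰.f i := by
        rw [Category.assoc, Category.assoc, pullback.condition]
      rw [← Category.assoc, ← Category.assoc, hgP i _ (pullback.snd f' (sp φ)) e,
        hgP j _ (pullback.snd f' (sp φ)) ((congrArg (· ≫ f) e').trans e)]
      refine congrArg (· ≫ u) (pullback.hom_ext ?_ ?_)
      · simp only [pullback.lift_fst, Category.assoc, pullback.condition]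
      · simp only [pullback.lift_snd]
    · have e : ((pullback.fst f' (jt t) ≫ pullback.fst (𝒰.f i) (𝒰.f j)) ≫ 𝒰.f i) ≫ f =
          pullback.snd f' (jt t) ≫ jt t := by
        rw [Category.assoc, Category.assoc]; exact (congrArg (_ ≫ ·) (Category.assoc _ _ _).symm).trans pullback.condition
      have e' : (pullback.fst f' (jt t) ≫ pullback.snd (𝒰.f i) (𝒰.f j)) ≫ 𝒰.f j =
          (pullback.fst f' (jt t) ≫ pullback.fst (𝒰.f i) (𝒰.f j)) ≫ 𝒰.f i := by
        rw [Category.assoc, Category.assoc, pullback.condition]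
      rw [← Category.assoc, ← Category.assoc, hgQ i _ (pullback.snd f' (jt t)) e,
        hgQ j _ (pullback.snd f' (jt t)) ((congrArg (· ≫ f) e').trans e)]
      refine congrArg (· ≫ h) (pullback.hom_ext ?_ ?_)
      · simp only [pullback.lift_fst, Category.assoc, pullback.condition]
      · simp only [pullback.lift_snd]
  · refine restrict_glue 𝒰 g _ _ u fun i => ?_
    rw [hgP i _ (pullback.snd (𝒰.f i) (pullback.fst f (sp φ)) ≫ pullback.snd f (sp φ))
      (by rw [pullback.condition, Category.assoc, pullback.condition, ← Category.assoc])]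
    refine congrArg (· ≫ u) (pullback.hom_ext ?_ ?_)
    · simp only [pullback.lift_fst, Category.assoc, pullback.condition]
    · simp only [pullback.lift_snd, Category.assoc]
  · refine restrict_glue 𝒰 g _ _ h fun i => ?_
    rw [hgQ i _ (pullback.snd (𝒰.f i) (pullback.fst f (jt t)) ≫ pullback.snd f (jt t))
      (by rw [pullback.condition, Category.assoc, pullback.condition, ← Category.assoc])]
    refine congrArg (· ≫ h) (pullback.hom_ext ?_ ?_)
    · simp only [pullback.lift_fst, Category.assoc, pullback.condition]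
    · simp only [pullback.lift_snd, Category.assoc]

end BLData

end Groth.Agent.G0Patch
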