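import Groth.Agent.G0Patch.MilnorGlue
import Mathlib.RingTheory.Ideal.Quotient.Operations

/-!
# Beauville-Laszlo gluing of morphisms to an arbitrary scheme: rings
-/

set_option autoImplicit false

universe u

open CategoryTheory Limits AlgebraicGeometry

namespace Groth.Agent.G0Patch

variable {G : Scheme.{u}} {C P : Type u} [CommRing C] [CommRing P]

/-- `ψ : C → P` is an isomorphism on completions along `s` and on `s`-power torsion. -/
structure BLPair (ψ : C →+* P) (s : C) : Prop where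
  tors_inj : ∀ (c : C) (N : ℕ), ψ c = 0 → s ^ N * c = 0 → c = 0
  tors_surj : ∀ (p : P) (N : ℕ), ψ s ^ N * p = 0 → ∃ c, ψ c = p ∧ s ^ N * c = 0
  retr : ∀ N : ℕ, ∃ ρ : P →+* C ⧸ Ideal.span {s ^ N}, ρ.comp ψ = Ideal.Quotient.mk _
  surj : ∀ (N : ℕ) (p : P), ∃ (β : C) (η : P), p = ψ β + ψ s ^ N * η

namespace BLPair

variable {ψ : C →+* P} {s : C} (H : BLPair ψ s)

local notation "θ" => algebraMap C (Localization.Away s)
local notation "a" => algebraMap P (Localization.Away (ψ s))
local notation "b" => Localization.awayMap ψ s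

theorem comm : RingHom.comp a ψ = RingHom.comp b θ := (locMap_comp' ψ s).symm

include H in
theorem hpb : ∀ p q, a p = b q → ∃! c, ψ c = p ∧ θ c = q := by
  intro p q h
  obtain ⟨n, x, hx⟩ := IsLocalization.Away.surj s q
  have hbx : b (θ x) = a (ψ x) := (DFunLike.congr_fun comm x).symm
  have hbs : b (θ s) = a (ψ s) := (DFunLike.congr_fun comm s).symm
  have e : a (ψ s ^ n * p) = a (ψ x) := by
    rw [← hbx, ← hx, map_mul, map_pow, map_mul, map_pow, hbs, h, mul_comm]
  obtain ⟨⟨_, m, rfl⟩, hm⟩ := IsLocalization.exists_of_eq (M := Submonoid.powers (ψ s)) e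
  dsimp only at hm
  obtain ⟨ρ, hρ⟩ := H.retr (m + n)
  have h1 : Ideal.Quotient.mk (Ideal.span {s ^ (m + n)}) (s ^ m * x) = 0 := by
    rw [← hρ, RingHom.comp_apply, map_mul, map_pow, ← hm, ← mul_assoc, ← pow_add, map_mul, ← map_pow,
      ← RingHom.comp_apply, hρ, Ideal.Quotient.eq_zero_iff_mem.mpr (Ideal.mem_span_singleton_self _), zero_mul]
  obtain ⟨c₀, hc₀⟩ := Ideal.mem_span_singleton'.mp (Ideal.Quotient.eq_zero_iff_mem.mp h1)
  have h2 : ψ s ^ (m + n) * (p - ψ c₀) = 0 := by
    rw [mul_sub, pow_add, mul_assoc, hm, ← map_pow, ← map_pow, ← map_mul, ← map_mul, ← map_mul, ← pow_add,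
      mul_comm (s ^ (m + n)) c₀, hc₀, sub_self]
  obtain ⟨τ, hτ, hτ0⟩ := H.tors_surj _ _ h2
  have hu : IsUnit (θ s) := IsLocalization.Away.algebraMap_isUnit s
  have hτq : θ τ = 0 := by
    have := congrArg θ hτ0
    rwa [map_mul, map_pow, map_zero, (hu.pow _).mul_right_eq_zero] at this
  have hc₀q : θ c₀ = q := by
    refine (hu.pow (m + n)).mul_left_cancel ?_
    rw [← map_pow, ← map_mul, mul_comm (s ^ (m + n)) c₀, hc₀, map_mul, map_pow, map_pow, ← hx, pow_add]
    ring
  refine ⟨c₀ + τ, ⟨by rw [map_add, hτ, add_sub_cancel], by rw [map_add, hτq, add_zero, hc₀q]⟩, fun y hy => ?_⟩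
  obtain ⟨⟨_, k, rfl⟩, hk⟩ := IsLocalization.exists_of_eq (M := Submonoid.powers s)
    (show θ y = θ (c₀ + τ) by rw [hy.2, map_add, hτq, add_zero, hc₀q])
  exact sub_eq_zero.mp (H.tors_inj _ k (by rw [map_sub, hy.1, map_add, hτ, add_sub_cancel, sub_self])
    (by rw [mul_sub, hk, sub_self]))

include H in
theorem mem_range_or (w : PrimeSpectrum C) :
    (∃ p, (sp ψ).base p = w) ∨ ∃ q, (sp θ).base q = w := by
  by_cases hs : s ∈ w.asIdeal
  · left
    obtain ⟨ρ, hρ⟩ := H.retr 1
    obtain ⟨w', hw'⟩ := (Set.ext_iff.mp (range_comap_of_surjective (C ⧸ Ideal.span {s ^ 1}) (Ideal.Quotient.mk _)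
      Ideal.Quotient.mk_surjective) w).mpr ((PrimeSpectrum.mem_zeroLocus _ _).mpr (by
        rw [Ideal.mk_ker, SetLike.coe_subset_coe, Ideal.span_singleton_le_iff_mem, pow_one]; exact hs))
    refine ⟨PrimeSpectrum.comap ρ w', ?_⟩
    show PrimeSpectrum.comap ψ (PrimeSpectrum.comap ρ w') = w
    rw [← PrimeSpectrum.comap_comp_apply, hρ, hw']
  · right
    exact (Set.ext_iff.mp (PrimeSpectrum.localization_away_comap_range (Localization.Away s) s) w).mpr hs

include H in
/-- Two morphisms agreeing on both pieces agree. -/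
theorem ext_pieces {W : Scheme.{u}} (j : W ⟶ Spec (CommRingCat.of C)) [IsOpenImmersion j] (u v : W ⟶ G)
    (hP : pullback.fst j (sp ψ) ≫ u = pullback.fst j (sp ψ) ≫ v)
    (hQ : pullback.fst j (sp θ) ≫ u = pullback.fst j (sp θ) ≫ v) : u = v := by
  have hpt : ∀ w, u.base w = v.base w := by
    intro w
    rcases H.mem_range_or (j.base w) with ⟨p, hp⟩ | ⟨q, hq⟩
    · obtain ⟨z, hz, -⟩ := Scheme.Pullback.exists_preimage_pullback (f := j) (g := sp ψ) w p hp.symm
      rw [← hz]
      exact congrArg (fun m => m.base z) hP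
    · obtain ⟨z, hz, -⟩ := Scheme.Pullback.exists_preimage_pullback (f := j) (g := sp θ) w q hq.symm
      rw [← hz]
      exact congrArg (fun m => m.base z) hQ
  have hloc : ∀ w : W, ∃ O : W.Opens, w ∈ O ∧ O.ι ≫ u = O.ι ≫ v := by
    intro w
    obtain ⟨_, ⟨U, hU, rfl⟩, hwU, -⟩ := G.isBasis_affineOpens.exists_subset_of_mem_open (Set.mem_univ (u.base w)) isOpen_univ
    have hO : IsOpen (j.base '' ((u ⁻¹ᵁ U ⊓ v ⁻¹ᵁ U : W.Opens) : Set W)) :=
      j.isOpenEmbedding.isOpenMap _ (u ⁻¹ᵁ U ⊓ v ⁻¹ᵁ U).isOpen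
    obtain ⟨_, ⟨c, rfl⟩, hwc, hc⟩ := PrimeSpectrum.isTopologicalBasis_basic_opens.exists_subset_of_mem_open
      (⟨w, ⟨hwU, show v.base w ∈ U from hpt w ▸ hwU⟩, rfl⟩ : j.base w ∈ j.base '' ((u ⁻¹ᵁ U ⊓ v ⁻¹ᵁ U : W.Opens) : Set W)) hO
    let Cc := Localization.Away c
    have hr : Set.range (sp (algebraMap C Cc)).base = (PrimeSpectrum.basicOpen c : Set (PrimeSpectrum C)) :=
      PrimeSpectrum.localization_away_comap_range Cc c
    let k : Spec (CommRingCat.of Cc) ⟶ W := IsOpenImmersion.lift j (sp (algebraMap C Cc))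
      (hr.le.trans (hc.trans (Set.image_subset_range _ _)))
    have hk : k ≫ j = sp (algebraMap C Cc) := IsOpenImmersion.lift_fac _ _ _
    have hkU : ∀ z, k.base z ∈ (u ⁻¹ᵁ U ⊓ v ⁻¹ᵁ U : W.Opens) := fun z => by
      obtain ⟨w', hw', e⟩ := hc (hr.le ⟨z, rfl⟩)
      rw [← hk] at e
      have := j.isOpenEmbedding.injective (e : j.base w' = j.base (k.base z))
      exact this ▸ hw'
    obtain ⟨α, hα⟩ := exists_factor hU (k ≫ u) fun z => (hkU z).1
    obtain ⟨β, hβ⟩ := exists_factor hU (k ≫ v) fun z => (hkU z).2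
    have key : ∀ {P' : Type u} [CommRing P'] (f : C →+* P'),
        pullback.fst j (sp f) ≫ u = pullback.fst j (sp f) ≫ v →
        ∀ x, locMap f c (α x) = locMap f c (β x) := by
      intro P' _ f hf x
      have hsq : (sp (locMap f c) ≫ k) ≫ j = sp (algebraMap P' (Localization.Away (f c))) ≫ sp f := by
        rw [Category.assoc, hk, ← Spec.map_comp, ← Spec.map_comp, ← CommRingCat.ofHom_comp, ← CommRingCat.ofHom_comp,
          locMap_comp]
      have e := congrArg (fun m => pullback.lift _ _ hsq ≫ m) hf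
      simp only [pullback.lift_fst_assoc, Category.assoc, ← hα, ← hβ] at e
      rw [← Spec.map_comp_assoc, ← Spec.map_comp_assoc] at e
      exact congr($(factor_injective hU e) x)
    have : α = β := CommRingCat.hom_ext (RingHom.ext fun x =>
      locMap_injective H.hpb c (Prod.ext (key ψ hP x) (key _ hQ x)))
    refine ⟨k.opensRange, ?_, ?_⟩
    · obtain ⟨z, hz⟩ := hr.ge hwc
      exact ⟨z, j.isOpenEmbedding.injective (by rw [← hz, ← hk]; rfl)⟩
    · have e : k ≫ u = k ≫ v := by rw [← hα, ← hβ, this]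
      rw [← cancel_epi k.isoOpensRange.hom]
      simpa only [← Category.assoc, Scheme.Hom.isoOpensRange_hom_ι] using e
  choose O hwO hO using hloc
  exact (W.openCoverOfIsOpenCover O (TopologicalSpace.IsOpenCover.mk (TopologicalSpace.Opens.ext
    (Set.eq_univ_of_forall fun w => TopologicalSpace.Opens.mem_iSup.mpr ⟨w, hwO w⟩)))).hom_ext _ _ hO

include H in
/-- An element near a point of the closed locus whose loci on both pieces go to `U`. -/
theorem exists_elem (u : Spec (CommRingCat.of P) ⟶ G) (h : Spec (CommRingCat.of (Localization.Away s)) ⟶ G)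
    (hc : sp a ≫ u = sp b ≫ h) (w : Spec (CommRingCat.of C)) (hs : s ∈ w.asIdeal) :
    ∃ (U : G.Opens) (_ : IsAffineOpen U) (c : C), c ∉ w.asIdeal ∧
      (∀ z : PrimeSpectrum P, ψ c ∉ z.asIdeal → u.base z ∈ U) ∧
      ∀ z : PrimeSpectrum (Localization.Away s), θ c ∉ z.asIdeal → h.base z ∈ U := by
  rcases H.mem_range_or w with ⟨p₀, hp₀⟩ | ⟨q, hq⟩
  swap
  · exact absurd hs ((Set.ext_iff.mp (PrimeSpectrum.localization_away_comap_range (Localization.Away s) s) w).mp ⟨q, hq⟩)
  obtain ⟨_, ⟨U, hU, rfl⟩, hwU, -⟩ :=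
    G.isBasis_affineOpens.exists_subset_of_mem_open (Set.mem_univ (u.base p₀)) isOpen_univ
  obtain ⟨_, ⟨f, rfl⟩, hpf, hfU⟩ := PrimeSpectrum.isTopologicalBasis_basic_opens.exists_subset_of_mem_open
    (hwU : p₀ ∈ ((u ⁻¹ᵁ U : (Spec (CommRingCat.of P)).Opens) : Set (Spec (CommRingCat.of P)))) (u ⁻¹ᵁ U).isOpen
  obtain ⟨J, hJ⟩ := (PrimeSpectrum.isClosed_iff_zeroLocus_ideal _).mp (h ⁻¹ᵁ U).isOpen.isClosed_compl
  let J₀ : Ideal C := J.comap θ
  have hrad : a f ∈ (Ideal.map (RingHom.comp a ψ) J₀).radical := by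
    rw [Ideal.radical_eq_sInf, Ideal.mem_sInf]
    rintro q ⟨hle, hq⟩
    by_contra hfq
    let q₀ : PrimeSpectrum (Localization.Away (ψ s)) := ⟨q, hq⟩
    have h1 : h.base ((sp b).base q₀) ∈ U := by
      have e := congrArg (fun m => m.base (show Spec (CommRingCat.of (Localization.Away (ψ s))) from q₀)) hc
      refine Eq.mp (congrArg (· ∈ U) e) ?_
      exact hfU (show f ∉ (PrimeSpectrum.comap a q₀).asIdeal from hfq)
    have h2 : PrimeSpectrum.comap b q₀ ∈ PrimeSpectrum.zeroLocus (J : Set (Localization.Away s)) := by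
      intro j hj
      obtain ⟨n, x, hx⟩ := IsLocalization.Away.surj s j
      have hxJ : x ∈ J₀ := by
        show θ x ∈ J
        rw [← hx]
        exact Ideal.mul_mem_right _ _ hj
      have h3 : b (θ x) ∈ q := by
        rw [← RingHom.comp_apply, ← comm]
        exact hle (Ideal.mem_map_of_mem _ hxJ)
      rw [← hx, map_mul, map_pow] at h3
      refine (hq.mem_or_mem h3).resolve_right fun h4 => hq.ne_top (Ideal.eq_top_of_isUnit_mem _ h4 ?_)
      exact ((IsLocalization.Away.algebraMap_isUnit s).map b).pow n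
    rw [← hJ] at h2
    exact h2 h1
  obtain ⟨N', hN'⟩ := hrad
  obtain ⟨N, hN0, hN⟩ : ∃ N, N ≠ 0 ∧ a f ^ N ∈ Ideal.map (RingHom.comp a ψ) J₀ :=
    ⟨N' + 1, Nat.succ_ne_zero _, by rw [pow_succ]; exact Ideal.mul_mem_right _ _ hN'⟩
  rw [← map_pow, ← Ideal.map_map] at hN
  obtain ⟨⟨⟨x, hxI⟩, d, M, rfl⟩, hx⟩ := (IsLocalization.mem_map_algebraMap_iff (Submonoid.powers (ψ s)) _).mp hN
  dsimp only at hx
  rw [← map_mul] at hx
  obtain ⟨⟨_, e, rfl⟩, he⟩ := IsLocalization.exists_of_eq (M := Submonoid.powers (ψ s)) hx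
  dsimp only at he
  set L := e + M
  have hxI' : ψ s ^ L * f ^ N ∈ Ideal.map ψ J₀ := by
    rw [pow_add, mul_assoc, mul_comm _ (f ^ N), he]
    exact Ideal.mul_mem_left _ _ hxI
  have key : ∀ p ∈ Ideal.map ψ J₀, ∃ y ∈ J₀, ∃ η : P, p = ψ y + ψ s ^ (L + 1) * η := by
    intro p hp
    induction hp using Submodule.span_induction with
    | mem p hp =>
      obtain ⟨y, hy, rfl⟩ := hp
      exact ⟨y, hy, 0, by rw [mul_zero, add_zero]⟩
    | zero => exact ⟨0, zero_mem _, 0, by rw [map_zero, mul_zero, add_zero]⟩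
    | add p p' _ _ hp hp' =>
      obtain ⟨y, hy, η, rfl⟩ := hp
      obtain ⟨y', hy', η', rfl⟩ := hp'
      exact ⟨y + y', add_mem hy hy', η + η', by rw [map_add]; ring⟩
    | smul r p _ hp =>
      obtain ⟨y, hy, η, rfl⟩ := hp
      obtain ⟨β, η', rfl⟩ := H.surj (L + 1) r
      exact ⟨β * y, Ideal.mul_mem_left _ _ hy, ψ β * η + η' * (ψ y + ψ s ^ (L + 1) * η), by
        rw [smul_eq_mul, map_mul]; ring⟩
  obtain ⟨y, hy, η, hyη⟩ := key _ hxI'
  let p' := f ^ N - ψ s * η
  let q' := θ y * IsLocalization.Away.invSelf s ^ L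
  have hu : IsUnit (a (ψ s)) := IsLocalization.Away.algebraMap_isUnit _
  obtain ⟨c, ⟨hc₁, hc₂⟩, -⟩ := H.hpb p' q' (by
    refine (hu.pow L).mul_left_cancel ?_
    rw [← map_pow, ← map_mul, show ψ s ^ L * p' = ψ y by
      rw [show ψ y = ψ s ^ L * f ^ N - ψ s ^ (L + 1) * η by rw [hyη]; ring]; ring]
    rw [map_pow, show a (ψ s) = b (θ s) from DFunLike.congr_fun comm s, ← map_pow, ← map_mul,
      show θ s ^ L * q' = θ y by
        rw [show q' = θ y * IsLocalization.Away.invSelf s ^ L from rfl, mul_left_comm, ← mul_pow,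
          IsLocalization.Away.mul_invSelf, one_pow, mul_one]]
    exact DFunLike.congr_fun comm y)
  have hsp₀ : ψ s ∈ p₀.asIdeal := by
    rw [← hp₀] at hs
    exact hs
  refine ⟨U, hU, c, ?_, fun z hz => ?_, fun z hz => ?_⟩
  · rw [← hp₀]
    show ψ c ∉ p₀.asIdeal
    rw [hc₁]
    intro hmem
    refine hpf (p₀.isPrime.mem_of_pow_mem N ?_)
    rw [show f ^ N = p' + ψ s * η by ring]
    exact add_mem hmem (Ideal.mul_mem_right _ _ hsp₀)
  · by_cases hzs : ψ s ∈ z.asIdeal
    · refine hfU (show f ∉ z.asIdeal from fun hf => hz ?_)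
      rw [hc₁]
      refine sub_mem ?_ (Ideal.mul_mem_right _ _ hzs)
      exact Ideal.pow_mem_of_mem _ hf _ (Nat.pos_of_ne_zero hN0)
    · obtain ⟨q₀, hq₀⟩ := (Set.ext_iff.mp (PrimeSpectrum.localization_away_comap_range (Localization.Away (ψ s)) (ψ s)) z).mpr hzs
      rw [← hq₀]
      have e := congrArg (fun m => m.base (show Spec (CommRingCat.of (Localization.Away (ψ s))) from q₀)) hc
      refine Eq.mpr (congrArg (· ∈ U) e) ?_
      by_contra hU'
      refine hz ?_
      rw [← hq₀]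
      show a (ψ c) ∈ q₀.asIdeal
      rw [show a (ψ c) = b (θ c) from DFunLike.congr_fun comm c, hc₂]
      refine (hJ.le hU') ?_
      exact Ideal.mul_mem_right _ _ hy
  · by_contra hU'
    refine hz ?_
    rw [hc₂]
    exact (hJ.le hU') (Ideal.mul_mem_right _ _ hy)

include H in
/-- Morphisms glue. -/
theorem exists_glue (u : Spec (CommRingCat.of P) ⟶ G) (h : Spec (CommRingCat.of (Localization.Away s)) ⟶ G)
    (hc : sp a ≫ u = sp b ≫ h) :
    ∃ g : Spec (CommRingCat.of C) ⟶ G, sp ψ ≫ g = u ∧ sp θ ≫ g = h := by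
  have hoi : IsOpenImmersion (sp θ) := IsOpenImmersion.of_isLocalization s
  have hloc : ∀ w : Spec (CommRingCat.of C), ∃ (W : Scheme.{u}) (j : W ⟶ Spec (CommRingCat.of C)) (g : W ⟶ G),
      IsOpenImmersion j ∧ w ∈ Set.range j.base ∧ pullback.fst j (sp ψ) ≫ g = pullback.snd j (sp ψ) ≫ u ∧
        pullback.fst j (sp θ) ≫ g = pullback.snd j (sp θ) ≫ h := by
    intro w
    by_cases hs : s ∈ w.asIdeal
    swap
    · have hoa : IsOpenImmersion (sp a) := IsOpenImmersion.of_isLocalization (ψ s)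
      refine ⟨_, sp θ, h, hoi,
        (Set.ext_iff.mp (PrimeSpectrum.localization_away_comap_range (Localization.Away s) s) w).mpr hs, ?_, ?_⟩
      · let l := IsOpenImmersion.lift (sp a) (pullback.snd (sp θ) (sp ψ)) (by
          rintro _ ⟨z, rfl⟩
          refine (Set.ext_iff.mp (PrimeSpectrum.localization_away_comap_range (Localization.Away (ψ s)) (ψ s)) _).mpr ?_
          show s ∉ ((sp ψ).base ((pullback.snd (sp θ) (sp ψ)).base z)).asIdeal
          have hpc : (sp θ).base ((pullback.fst (sp θ) (sp ψ)).base z) = (sp ψ).base ((pullback.snd (sp θ) (sp ψ)).base z) :=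
            congrArg (fun m : pullback (sp θ) (sp ψ) ⟶ Spec (CommRingCat.of C) => m.base z) pullback.condition
          rw [← hpc]
          exact (Set.ext_iff.mp (PrimeSpectrum.localization_away_comap_range (Localization.Away s) s) _).mp ⟨_, rfl⟩)
        have hl : l ≫ sp a = pullback.snd (sp θ) (sp ψ) := IsOpenImmersion.lift_fac _ _ _
        have hfst : pullback.fst (sp θ) (sp ψ) = l ≫ sp b := by
          rw [← cancel_mono (sp θ), pullback.condition, ← hl, Category.assoc, Category.assoc, ← Spec.map_comp,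
            ← Spec.map_comp, ← CommRingCat.ofHom_comp, ← CommRingCat.ofHom_comp, comm]
        rw [hfst, Category.assoc, ← hc, reassoc_of% hl]
      · rw [fst_eq_snd_of_mono_eq]
    · obtain ⟨U, hU, c, hcw, hcP, hcQ⟩ := H.exists_elem u h hc w hs
      let L := Localization.Away (a (ψ c))
      have hbc : b (θ c) = a (ψ c) := (DFunLike.congr_fun comm c).symm
      let lb : Localization.Away (θ c) →+* L := IsLocalization.Away.lift (θ c)
        (g := (algebraMap (Localization.Away (ψ s)) L).comp b) (by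
          rw [RingHom.comp_apply, hbc]; exact IsLocalization.Away.algebraMap_isUnit _)
      obtain ⟨α, hα⟩ := exists_factor hU (sp (algebraMap P (Localization.Away (ψ c))) ≫ u) fun z => hcP _
        ((Set.ext_iff.mp (PrimeSpectrum.localization_away_comap_range (Localization.Away (ψ c)) (ψ c)) _).mp ⟨z, rfl⟩)
      obtain ⟨β, hβ⟩ := exists_factor hU (sp (algebraMap (Localization.Away s) (Localization.Away (θ c))) ≫ h)
        fun z => hcQ _
        ((Set.ext_iff.mp (PrimeSpectrum.localization_away_comap_range (Localization.Away (θ c)) (θ c)) _).mp ⟨z, rfl⟩)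
      have hla : (Localization.awayMap a (ψ c)).comp (algebraMap P _) = (algebraMap (Localization.Away (ψ s)) L).comp a :=
        locMap_comp' a (ψ c)
      have hlb : lb.comp (algebraMap (Localization.Away s) _) = (algebraMap (Localization.Away (ψ s)) L).comp b :=
        IsLocalization.Away.lift_comp _ _
      have hαβ : ∀ x, Localization.awayMap a (ψ c) (α x) = lb (β x) := by
        intro x
        have e1 : sp (Localization.awayMap a (ψ c)) ≫ sp (algebraMap P _) = sp (algebraMap (Localization.Away (ψ s)) L) ≫ sp a := by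
          rw [← Spec.map_comp, ← Spec.map_comp, ← CommRingCat.ofHom_comp, ← CommRingCat.ofHom_comp, hla]
        have e2 : sp lb ≫ sp (algebraMap (Localization.Away s) _) = sp (algebraMap (Localization.Away (ψ s)) L) ≫ sp b := by
          rw [← Spec.map_comp, ← Spec.map_comp, ← CommRingCat.ofHom_comp, ← CommRingCat.ofHom_comp, hlb]
        have e : sp (Localization.awayMap a (ψ c)) ≫ Spec.map α ≫ hU.fromSpec = sp lb ≫ Spec.map β ≫ hU.fromSpec := by
          rw [hα, hβ, reassoc_of% e1, reassoc_of% e2, hc]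
        rw [← Spec.map_comp_assoc, ← Spec.map_comp_assoc] at e
        exact congr($(factor_injective hU e) x)
      have hex : ∀ x, ∃ e : Localization.Away c, locMap ψ c e = α x ∧ locMap θ c e = β x := fun x =>
        exists_lift_of_compat H.hpb hbc lb hlb (α x) (β x) (hαβ x)
      choose γ hγ using hex
      let γr : Γ(G, U) ⟶ CommRingCat.of (Localization.Away c) := CommRingCat.ofHom
        { toFun := γ
          map_one' := locMap_injective H.hpb c (by simp [hγ])
          map_zero' := locMap_injective H.hpb c (by simp [hγ])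
          map_add' := fun x y => locMap_injective H.hpb c (by simp [hγ])
          map_mul' := fun x y => locMap_injective H.hpb c (by simp [hγ]) }
      have hoc : IsOpenImmersion (sp (algebraMap C (Localization.Away c))) := IsOpenImmersion.of_isLocalization c
      refine ⟨_, sp (algebraMap C (Localization.Away c)), Spec.map γr ≫ hU.fromSpec, hoc,
        (Set.ext_iff.mp (PrimeSpectrum.localization_away_comap_range (Localization.Away c) c) w).mpr hcw, ?_, ?_⟩
      · refine restrict_eq ψ c u γr (Spec.map α ≫ hU.fromSpec) hα _ ?_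
        rw [← Spec.map_comp_assoc]
        congr 2
        exact CommRingCat.hom_ext (RingHom.ext fun x => (hγ x).1)
      · refine restrict_eq θ c h γr (Spec.map β ≫ hU.fromSpec) hβ _ ?_
        rw [← Spec.map_comp_assoc]
        congr 2
        exact CommRingCat.hom_ext (RingHom.ext fun x => (hγ x).2)
  choose W j g hj hw hgP hgQ using hloc
  let 𝒰 : (Spec (CommRingCat.of C)).OpenCover := Scheme.Cover.mkOfCovers (Spec (CommRingCat.of C)) W j
    (fun w => ⟨w, hw w⟩) hj
  refine ⟨𝒰.glueMorphisms g fun x y => ?_, ?_, ?_⟩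
  · have := hj x
    have := hj y
    have hji : IsOpenImmersion (pullback.fst (j x) (j y) ≫ j x) := inferInstance
    refine H.ext_pieces (pullback.fst (j x) (j y) ≫ j x) _ _ ?_ ?_
    · exact overlap_eq (j x) (j y) (g x) (g y) (sp ψ) u (hgP x) (hgP y)
    · exact overlap_eq (j x) (j y) (g x) (g y) (sp θ) h (hgQ x) (hgQ y)
  · exact restrict_glue 𝒰 g _ (sp ψ) u hgP
  · exact restrict_glue 𝒰 g _ (sp θ) h hgQ

end BLPair

end Groth.Agent.G0Patch
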