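import Mathlib.AlgebraicGeometry.AffineScheme
import Mathlib.AlgebraicGeometry.Gluing
import Mathlib.AlgebraicGeometry.PullbackCarrier
import Mathlib.RingTheory.Localization.Away.Basic
import Mathlib.RingTheory.Spectrum.Prime.RingHom

/-!
# Gluing morphisms along a pinching square, without separatedness
-/

set_option autoImplicit false

universe u

open CategoryTheory Limits AlgebraicGeometry

namespace Groth.Agent.G0Patch

variable {G : Scheme.{u}}

/-- A point with values in an affine open is a ring map. -/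
theorem exists_factor {U : G.Opens} (hU : IsAffineOpen U) {B : CommRingCat.{u}} (φ : Spec B ⟶ G)
    (hφ : ∀ z, φ.base z ∈ U) : ∃ α : Γ(G, U) ⟶ B, Spec.map α ≫ hU.fromSpec = φ := by
  have h : Set.range φ.base ⊆ Set.range hU.fromSpec.base := by
    rintro _ ⟨z, rfl⟩
    rw [hU.range_fromSpec]
    exact hφ z
  exact ⟨Spec.preimage (IsOpenImmersion.lift hU.fromSpec φ h),
    by rw [Spec.map_preimage, IsOpenImmersion.lift_fac]⟩

theorem factor_injective {U : G.Opens} (hU : IsAffineOpen U) {B : CommRingCat.{u}} {α β : Γ(G, U) ⟶ B}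
    (h : Spec.map α ≫ hU.fromSpec = Spec.map β ≫ hU.fromSpec) : α = β :=
  Spec.map_injective ((cancel_mono _).mp h)

variable {C P Q Q0 : Type u} [CommRing C] [CommRing P] [CommRing Q] [CommRing Q0]
  {ψ : C →+* P} {θ : C →+* Q} {a : P →+* Q0} {b : Q →+* Q0}

/-- `Spec` of a ring map. -/
noncomputable abbrev sp {A B : Type u} [CommRing A] [CommRing B] (f : A →+* B) :
    Spec (CommRingCat.of B) ⟶ Spec (CommRingCat.of A) := Spec.map (CommRingCat.ofHom f)

/-- The localisation of `ψ` at `c`. -/
noncomputable abbrev locMap (f : C →+* P) (c : C) : Localization.Away c →+* Localization.Away (f c) :=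
  Localization.awayMap f c

theorem locMap_comp (f : C →+* P) (c : C) :
    (locMap f c).comp (algebraMap C _) = (algebraMap P (Localization.Away (f c))).comp f :=
  RingHom.ext fun x => by simp [locMap, Localization.awayMap, IsLocalization.Away.map]

theorem locMap_comp' {A B : Type u} [CommRing A] [CommRing B] (f : A →+* B) (c : A) :
    (Localization.awayMap f c).comp (algebraMap A _) = (algebraMap B (Localization.Away (f c))).comp f :=
  RingHom.ext fun x => by simp [Localization.awayMap, IsLocalization.Away.map]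

/-- Restricting a chart to a piece. -/
theorem restrict_eq {P' : Type u} [CommRing P'] (f : C →+* P') (c : C) (u : Spec (CommRingCat.of P') ⟶ G)
    {R' : CommRingCat.{u}} (γ : R' ⟶ CommRingCat.of (Localization.Away c))
    (m : Spec (CommRingCat.of (Localization.Away (f c))) ⟶ G)
    (hm : m = sp (algebraMap P' (Localization.Away (f c))) ≫ u) (ι : Spec R' ⟶ G)
    (hγ : sp (locMap f c) ≫ Spec.map γ ≫ ι = m) :
    pullback.fst (sp (algebraMap C (Localization.Away c))) (sp f) ≫ Spec.map γ ≫ ι =
      pullback.snd (sp (algebraMap C (Localization.Away c))) (sp f) ≫ u := by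
  have hoc : IsOpenImmersion (sp (algebraMap C (Localization.Away c))) := IsOpenImmersion.of_isLocalization c
  have hof : IsOpenImmersion (sp (algebraMap P' (Localization.Away (f c)))) := IsOpenImmersion.of_isLocalization (f c)
  let p₁ := pullback.fst (sp (algebraMap C (Localization.Away c))) (sp f)
  let p₂ := pullback.snd (sp (algebraMap C (Localization.Away c))) (sp f)
  let l := IsOpenImmersion.lift (sp (algebraMap P' (Localization.Away (f c)))) p₂ (by
    rintro _ ⟨z, rfl⟩
    refine (Set.ext_iff.mp (PrimeSpectrum.localization_away_comap_range (Localization.Away (f c)) (f c)) _).mpr ?_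
    show c ∉ ((sp f).base (p₂.base z)).asIdeal
    have hpc : (sp (algebraMap C (Localization.Away c))).base (p₁.base z) = (sp f).base (p₂.base z) :=
      congrArg (fun m : pullback (sp (algebraMap C (Localization.Away c))) (sp f) ⟶ Spec (CommRingCat.of C) => m.base z) pullback.condition
    rw [← hpc]
    exact (Set.ext_iff.mp (PrimeSpectrum.localization_away_comap_range (Localization.Away c) c) _).mp ⟨_, rfl⟩)
  have hl : l ≫ sp (algebraMap P' (Localization.Away (f c))) = p₂ := IsOpenImmersion.lift_fac _ _ _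
  have hfst : p₁ = l ≫ sp (locMap f c) := by
    rw [← cancel_mono (sp (algebraMap C (Localization.Away c))), Category.assoc, ← Spec.map_comp,
      ← CommRingCat.ofHom_comp, locMap_comp, CommRingCat.ofHom_comp, Spec.map_comp, reassoc_of% hl]
    exact pullback.condition
  show p₁ ≫ _ = p₂ ≫ u
  rw [hfst, Category.assoc, hγ, hm, reassoc_of% hl]

/-- Charts agree on overlaps after restriction to a piece. -/
theorem overlap_eq {W W' Z S : Scheme.{u}} (j : W ⟶ S) (j' : W' ⟶ S) (g : W ⟶ G) (g' : W' ⟶ G) (f : Z ⟶ S)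
    (u : Z ⟶ G) (h : pullback.fst j f ≫ g = pullback.snd j f ≫ u)
    (h' : pullback.fst j' f ≫ g' = pullback.snd j' f ≫ u) :
    pullback.fst (pullback.fst j j' ≫ j) f ≫ pullback.fst j j' ≫ g =
      pullback.fst (pullback.fst j j' ≫ j) f ≫ pullback.snd j j' ≫ g' := by
  let p := pullback.fst (pullback.fst j j' ≫ j) f
  let q := pullback.snd (pullback.fst j j' ≫ j) f
  have c1 : (p ≫ pullback.fst j j') ≫ j = q ≫ f := by rw [Category.assoc]; exact pullback.condition
  have c2 : (p ≫ pullback.snd j j') ≫ j' = q ≫ f := by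
    rw [Category.assoc, ← pullback.condition, ← Category.assoc]; exact c1
  have e1 := congrArg (fun m => pullback.lift _ _ c1 ≫ m) h
  have e2 := congrArg (fun m => pullback.lift _ _ c2 ≫ m) h'
  simp only [pullback.lift_fst_assoc, pullback.lift_snd_assoc, Category.assoc] at e1 e2
  exact e1.trans e2.symm

/-- The glued map restricted to a piece. -/
theorem restrict_glue {S Z : Scheme.{u}} (𝒰 : S.OpenCover) (g : ∀ i, 𝒰.X i ⟶ G) (hg) (f : Z ⟶ S) (u : Z ⟶ G)
    (h : ∀ i, pullback.fst (𝒰.f i) f ≫ g i = pullback.snd (𝒰.f i) f ≫ u) : f ≫ 𝒰.glueMorphisms g hg = u := by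
  refine Scheme.Cover.hom_ext (𝒰.pullback₁ f) _ _ fun (i : 𝒰.I₀) => ?_
  show pullback.fst f (𝒰.f i) ≫ f ≫ _ = pullback.fst f (𝒰.f i) ≫ u
  rw [pullback.condition_assoc, Scheme.Cover.ι_glueMorphisms, ← pullbackSymmetry_hom_comp_fst, Category.assoc,
    h i, pullbackSymmetry_hom_comp_snd_assoc]

variable (hpb : ∀ p q, a p = b q → ∃! c, ψ c = p ∧ θ c = q)

include hpb in
theorem eq_zero_of_maps {x : C} (h1 : ψ x = 0) (h2 : θ x = 0) : x = 0 :=
  (hpb 0 0 (by rw [map_zero, map_zero])).unique ⟨h1, h2⟩ ⟨map_zero ψ, map_zero θ⟩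

include hpb in
theorem locMap_injective (c : C) :
    Function.Injective fun x : Localization.Away c => (locMap ψ c x, locMap θ c x) := by
  intro x y h
  obtain ⟨h1, h2⟩ := Prod.ext_iff.mp h
  rw [← sub_eq_zero]
  obtain ⟨n, d, hd⟩ := IsLocalization.Away.surj c (x - y)
  have kill : ∀ {P' : Type u} [CommRing P'] (f : C →+* P'), locMap f c x = locMap f c y →
      ∃ m, f (c ^ m * d) = 0 := fun {P'} _ f hf => by
    have e := congrArg (locMap f c) hd
    rw [map_mul, map_sub, hf, sub_self, zero_mul, ← RingHom.comp_apply, locMap_comp, RingHom.comp_apply] at e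
    obtain ⟨⟨_, m, rfl⟩, hm⟩ := (IsLocalization.map_eq_zero_iff (Submonoid.powers (f c)) _ _).mp e.symm
    exact ⟨m, by rw [map_mul, map_pow]; exact hm⟩
  obtain ⟨m, hm⟩ := kill ψ h1
  obtain ⟨m', hm'⟩ := kill θ h2
  have e0 : c ^ (m + m') * d = 0 := eq_zero_of_maps hpb
    (by rw [add_comm, pow_add, mul_assoc, map_mul, hm, mul_zero])
    (by rw [pow_add, mul_assoc, map_mul, hm', mul_zero])
  have hu : IsUnit (algebraMap C (Localization.Away c) c) := IsLocalization.Away.algebraMap_isUnit c
  have e1 := congrArg (algebraMap C (Localization.Away c)) e0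
  rw [map_mul, map_pow, map_zero, (hu.pow _).mul_right_eq_zero, ← hd, (hu.pow _).mul_left_eq_zero] at e1
  exact e1

variable (hb : Function.Surjective b) (hcomm : a.comp ψ = b.comp θ) (s : C)
  (hθ : letI := θ.toAlgebra; IsLocalization.Away s Q)
  (hker : ∀ w : PrimeSpectrum C, s ∈ w.asIdeal → RingHom.ker ψ ≤ w.asIdeal)

include hθ hker in
theorem mem_range_or (hψ : Function.Surjective ψ) (w : PrimeSpectrum C) :
    (∃ p, (sp ψ).base p = w) ∨ ∃ q, (sp θ).base q = w := by
  by_cases hs : s ∈ w.asIdeal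
  · left
    have := range_comap_of_surjective P ψ hψ
    exact (Set.ext_iff.mp this w).mpr ((PrimeSpectrum.mem_zeroLocus _ _).mpr (hker w hs))
  · right
    letI := θ.toAlgebra
    exact (Set.ext_iff.mp (PrimeSpectrum.localization_away_comap_range Q s) w).mpr hs

include hb hpb in
theorem surjective_ψ : Function.Surjective ψ := fun p => by
  obtain ⟨q, hq⟩ := hb (a p)
  obtain ⟨c, hc, -⟩ := hpb p q hq.symm
  exact ⟨c, hc.1⟩

include hpb hb hθ hker in
/-- Two morphisms agreeing on both pieces agree. -/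
theorem ext_pieces {W : Scheme.{u}} (j : W ⟶ Spec (CommRingCat.of C)) [IsOpenImmersion j] (u v : W ⟶ G)
    (hP : pullback.fst j (sp ψ) ≫ u = pullback.fst j (sp ψ) ≫ v)
    (hQ : pullback.fst j (sp θ) ≫ u = pullback.fst j (sp θ) ≫ v) : u = v := by
  have hpt : ∀ w, u.base w = v.base w := by
    intro w
    rcases mem_range_or s hθ hker (surjective_ψ hpb hb) (j.base w) with ⟨p, hp⟩ | ⟨q, hq⟩
    · obtain ⟨z, hz, -⟩ := Scheme.Pullback.exists_preimage_pullback (f := j) (g := sp ψ) w p hp.symm
      rw [← hz]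
      exact congrArg (fun m => m.base z) hP
    · obtain ⟨z, hz, -⟩ := Scheme.Pullback.exists_preimage_pullback (f := j) (g := sp θ) w q hq.symm
      rw [← hz]
      exact congrArg (fun m => m.base z) hQ
  have hloc : ∀ w : W, ∃ O : W.Opens, w ∈ O ∧ O.ι ≫ u = O.ι ≫ v := by
    intro w
    obtain ⟨_, ⟨U, hU, rfl⟩, hwU, -⟩ := G.isBasis_affineOpens.exists_subset_of_mem_open (Set.mem_univ (u.base w)) isOpen_univ
    have hO : IsOpen (j.base '' ((u ⁻¹ᵁ U ⊓ v ⁻¹ᵁ U : W.Opens) : Set W)) :=
      j.isOpenEmbedding.isOpenMap _ (u ⁻¹ᵁ U ⊓ v ⁻¹ᵁ U).isOpen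
    obtain ⟨_, ⟨c, rfl⟩, hwc, hc⟩ := PrimeSpectrum.isTopologicalBasis_basic_opens.exists_subset_of_mem_open
      (⟨w, ⟨hwU, show v.base w ∈ U from hpt w ▸ hwU⟩, rfl⟩ : j.base w ∈ j.base '' ((u ⁻¹ᵁ U ⊓ v ⁻¹ᵁ U : W.Opens) : Set W)) hO
    let Cc := Localization.Away c
    have hr : Set.range (sp (algebraMap C Cc)).base = (PrimeSpectrum.basicOpen c : Set (PrimeSpectrum C)) :=
      PrimeSpectrum.localization_away_comap_range Cc c
    let k : Spec (CommRingCat.of Cc) ⟶ W := IsOpenImmersion.lift j (sp (algebraMap C Cc))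
      (hr.le.trans (hc.trans (Set.image_subset_range _ _)))
    have hk : k ≫ j = sp (algebraMap C Cc) := IsOpenImmersion.lift_fac _ _ _
    have hkU : ∀ z, k.base z ∈ (u ⁻¹ᵁ U ⊓ v ⁻¹ᵁ U : W.Opens) := fun z => by
      obtain ⟨w', hw', e⟩ := hc (hr.le ⟨z, rfl⟩)
      rw [← hk] at e
      have := j.isOpenEmbedding.injective (e : j.base w' = j.base (k.base z))
      exact this ▸ hw'
    obtain ⟨α, hα⟩ := exists_factor hU (k ≫ u) fun z => (hkU z).1
    obtain ⟨β, hβ⟩ := exists_factor hU (k ≫ v) fun z => (hkU z).2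
    have key : ∀ {P' : Type u} [CommRing P'] (f : C →+* P'),
        pullback.fst j (sp f) ≫ u = pullback.fst j (sp f) ≫ v →
        ∀ x, locMap f c (α x) = locMap f c (β x) := by
      intro P' _ f hf x
      have hsq : (sp (locMap f c) ≫ k) ≫ j = sp (algebraMap P' (Localization.Away (f c))) ≫ sp f := by
        rw [Category.assoc, hk, ← Spec.map_comp, ← Spec.map_comp, ← CommRingCat.ofHom_comp, ← CommRingCat.ofHom_comp,
          locMap_comp]
      have e := congrArg (fun m => pullback.lift _ _ hsq ≫ m) hf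
      simp only [pullback.lift_fst_assoc, Category.assoc, ← hα, ← hβ] at e
      rw [← Spec.map_comp_assoc, ← Spec.map_comp_assoc] at e
      exact congr($(factor_injective hU e) x)
    have : α = β := CommRingCat.hom_ext (RingHom.ext fun x =>
      locMap_injective hpb c (Prod.ext (key ψ hP x) (key θ hQ x)))
    refine ⟨k.opensRange, ?_, ?_⟩
    · obtain ⟨z, hz⟩ := hr.ge hwc
      exact ⟨z, j.isOpenEmbedding.injective (by rw [← hz, ← hk]; rfl)⟩
    · have e : k ≫ u = k ≫ v := by rw [← hα, ← hβ, this]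
      rw [← cancel_epi k.isoOpensRange.hom]
      simpa only [← Category.assoc, Scheme.Hom.isoOpensRange_hom_ι] using e
  choose O hwO hO using hloc
  exact (W.openCoverOfIsOpenCover O (TopologicalSpace.IsOpenCover.mk (TopologicalSpace.Opens.ext
    (Set.eq_univ_of_forall fun w => TopologicalSpace.Opens.mem_iSup.mpr ⟨w, hwO w⟩)))).hom_ext _ _ hO

include hpb in
theorem exists_lift_pair (c : C) (x : Localization.Away (ψ c)) (y : Localization.Away (θ c)) (n : ℕ) (p : P) (q : Q)
    (k : ℕ) (hp : x * algebraMap P _ (ψ c) ^ n = algebraMap P _ p)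
    (hq : y * algebraMap Q _ (θ c) ^ n = algebraMap Q _ q) (hk : a (ψ c) ^ k * a p = b (θ c) ^ k * b q) :
    ∃ e : Localization.Away c, locMap ψ c e = x ∧ locMap θ c e = y := by
  obtain ⟨c₁, ⟨h1, h2⟩, -⟩ := hpb (ψ c ^ k * p) (θ c ^ k * q) (by simp only [map_mul, map_pow, hk])
  let e := algebraMap C (Localization.Away c) c₁ * IsLocalization.Away.invSelf c ^ (n + k)
  have key : ∀ {P' : Type u} [CommRing P'] (f : C →+* P'),
      locMap f c e * algebraMap P' _ (f c) ^ (n + k) = algebraMap P' _ (f c₁) := fun {P'} _ f => by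
    have hc1 := DFunLike.congr_fun (locMap_comp f c) c
    have hc2 := DFunLike.congr_fun (locMap_comp f c) c₁
    simp only [RingHom.comp_apply] at hc1 hc2
    rw [← hc1, ← map_pow, ← map_mul, ← hc2]
    congr 1
    rw [mul_assoc, ← mul_pow, mul_comm (IsLocalization.Away.invSelf c), IsLocalization.Away.mul_invSelf, one_pow,
      mul_one]
  refine ⟨e, ?_, ?_⟩
  · refine ((IsLocalization.Away.algebraMap_isUnit (S := Localization.Away (ψ c)) (ψ c)).pow (n + k)).mul_left_inj.mp ?_
    rw [key ψ, h1, map_mul, map_pow, pow_add, ← mul_assoc, hp, mul_comm]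
  · refine ((IsLocalization.Away.algebraMap_isUnit (S := Localization.Away (θ c)) (θ c)).pow (n + k)).mul_left_inj.mp ?_
    rw [key θ, h2, map_mul, map_pow, pow_add, ← mul_assoc, hq, mul_comm]

include hpb in
theorem exists_lift_of_compat {c : C} (hbc : b (θ c) = a (ψ c))
    (lb : Localization.Away (θ c) →+* Localization.Away (a (ψ c)))
    (hlb : lb.comp (algebraMap Q _) = (algebraMap Q0 _).comp b)
    (x : Localization.Away (ψ c)) (y : Localization.Away (θ c)) (hxy : Localization.awayMap a (ψ c) x = lb y) :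
    ∃ e : Localization.Away c, locMap ψ c e = x ∧ locMap θ c e = y := by
  have hla : (Localization.awayMap a (ψ c)).comp (algebraMap P _) = (algebraMap Q0 _).comp a := locMap_comp' a (ψ c)
  obtain ⟨n₁, p, hp⟩ := IsLocalization.Away.surj (ψ c) x
  obtain ⟨n₂, q, hq⟩ := IsLocalization.Away.surj (θ c) y
  have hp' : x * algebraMap P _ (ψ c) ^ (n₁ + n₂) = algebraMap P _ (p * ψ c ^ n₂) := by
    rw [pow_add, ← mul_assoc, hp, map_mul, map_pow]
  have hq' : y * algebraMap Q _ (θ c) ^ (n₁ + n₂) = algebraMap Q _ (q * θ c ^ n₁) := by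
    rw [add_comm, pow_add, ← mul_assoc, hq, map_mul, map_pow]
  have e : algebraMap Q0 (Localization.Away (a (ψ c))) (a (p * ψ c ^ n₂)) =
      algebraMap Q0 (Localization.Away (a (ψ c))) (b (q * θ c ^ n₁)) := by
    rw [← RingHom.comp_apply (algebraMap Q0 _) a, ← RingHom.comp_apply (algebraMap Q0 _) b, ← hla, ← hlb,
      RingHom.comp_apply, RingHom.comp_apply, ← hp', ← hq', map_mul, map_mul, map_pow, map_pow, hxy]
    congr 2
    exact (DFunLike.congr_fun hla (ψ c)).trans ((congrArg (algebraMap Q0 _) hbc.symm).trans (DFunLike.congr_fun hlb (θ c)).symm)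
  obtain ⟨⟨_, k, rfl⟩, hk⟩ := IsLocalization.exists_of_eq (M := Submonoid.powers (a (ψ c))) e
  exact exists_lift_pair hpb c _ _ _ _ _ k hp' hq' (by rw [hbc]; exact hk)

variable (hA : letI := a.toAlgebra; IsLocalization.Away (ψ s) Q0)

include hpb hb hcomm hθ hker hA in
/-- Morphisms glue along a pinching square. -/
theorem exists_glue (u : Spec (CommRingCat.of P) ⟶ G) (h : Spec (CommRingCat.of Q) ⟶ G)
    (hc : sp a ≫ u = sp b ≫ h) :
    ∃ g : Spec (CommRingCat.of C) ⟶ G, sp ψ ≫ g = u ∧ sp θ ≫ g = h := by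
  have hψ := surjective_ψ hpb hb
  have hloc : ∀ w : Spec (CommRingCat.of C), ∃ (W : Scheme.{u}) (j : W ⟶ Spec (CommRingCat.of C)) (g : W ⟶ G),
      IsOpenImmersion j ∧ w ∈ Set.range j.base ∧ pullback.fst j (sp ψ) ≫ g = pullback.snd j (sp ψ) ≫ u ∧
        pullback.fst j (sp θ) ≫ g = pullback.snd j (sp θ) ≫ h := by
    intro w
    by_cases hs : s ∈ w.asIdeal
    swap
    · letI := θ.toAlgebra
      letI := a.toAlgebra
      have hoi : IsOpenImmersion (sp θ) := IsOpenImmersion.of_isLocalization (S := Q) s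
      have hoa : IsOpenImmersion (sp a) := IsOpenImmersion.of_isLocalization (S := Q0) (ψ s)
      refine ⟨_, sp θ, h, hoi, (Set.ext_iff.mp (PrimeSpectrum.localization_away_comap_range Q s) w).mpr hs, ?_, ?_⟩
      · let l := IsOpenImmersion.lift (sp a) (pullback.snd (sp θ) (sp ψ)) (by
          rintro _ ⟨z, rfl⟩
          refine (Set.ext_iff.mp (PrimeSpectrum.localization_away_comap_range Q0 (ψ s)) _).mpr ?_
          show s ∉ ((sp ψ).base ((pullback.snd (sp θ) (sp ψ)).base z)).asIdeal
          have hpc : (sp θ).base ((pullback.fst (sp θ) (sp ψ)).base z) = (sp ψ).base ((pullback.snd (sp θ) (sp ψ)).base z) :=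
            congrArg (fun m : pullback (sp θ) (sp ψ) ⟶ Spec (CommRingCat.of C) => m.base z) pullback.condition
          rw [← hpc]
          exact (Set.ext_iff.mp (PrimeSpectrum.localization_away_comap_range Q s) _).mp ⟨_, rfl⟩)
        have hl : l ≫ sp a = pullback.snd (sp θ) (sp ψ) := IsOpenImmersion.lift_fac _ _ _
        have hfst : pullback.fst (sp θ) (sp ψ) = l ≫ sp b := by
          rw [← cancel_mono (sp θ), pullback.condition, ← hl, Category.assoc, Category.assoc, ← Spec.map_comp,
            ← Spec.map_comp, ← CommRingCat.ofHom_comp, ← CommRingCat.ofHom_comp, hcomm]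
        rw [hfst, Category.assoc, ← hc, reassoc_of% hl]
      · rw [fst_eq_snd_of_mono_eq]
    · obtain ⟨p₀, hp₀⟩ := (Set.ext_iff.mp (range_comap_of_surjective P ψ hψ) w).mpr
        ((PrimeSpectrum.mem_zeroLocus _ _).mpr (hker w hs))
      obtain ⟨_, ⟨U, hU, rfl⟩, hwU, -⟩ :=
        G.isBasis_affineOpens.exists_subset_of_mem_open (Set.mem_univ (u.base p₀)) isOpen_univ
      obtain ⟨_, ⟨f, rfl⟩, hpf, hfU⟩ := PrimeSpectrum.isTopologicalBasis_basic_opens.exists_subset_of_mem_open
        (hwU : p₀ ∈ ((u ⁻¹ᵁ U : (Spec (CommRingCat.of P)).Opens) : Set (Spec (CommRingCat.of P)))) (u ⁻¹ᵁ U).isOpen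
      obtain ⟨f₀, hf₀⟩ := hψ f
      obtain ⟨J, hJ⟩ := (PrimeSpectrum.isClosed_iff_zeroLocus_ideal _).mp (h ⁻¹ᵁ U).isOpen.isClosed_compl
      have hrad : θ f₀ ∈ (J ⊔ RingHom.ker b).radical := by
        rw [Ideal.radical_eq_sInf, Ideal.mem_sInf]
        rintro q ⟨hle, hq⟩
        by_contra hfq
        obtain ⟨hqJ, hqb⟩ := sup_le_iff.mp hle
        obtain ⟨q₀, hq₀⟩ := (Set.ext_iff.mp (range_comap_of_surjective Q0 b hb) ⟨q, hq⟩).mpr
          ((PrimeSpectrum.mem_zeroLocus _ _).mpr hqb)
        have hmem : PrimeSpectrum.comap a q₀ ∈ (PrimeSpectrum.basicOpen f : Set (PrimeSpectrum P)) := by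
          show a f ∉ q₀.asIdeal
          rw [← hf₀, ← RingHom.comp_apply, hcomm]
          exact fun hx => hfq ((SetLike.ext_iff.mp (congrArg PrimeSpectrum.asIdeal hq₀) (θ f₀)).mp hx)
        have h1 : h.base ((sp b).base q₀) ∈ U := by
          rw [← Scheme.Hom.comp_apply, ← hc, Scheme.Hom.comp_apply]
          exact hfU hmem
        have h2 : (⟨q, hq⟩ : PrimeSpectrum Q) ∈ PrimeSpectrum.zeroLocus (J : Set Q) := hqJ
        rw [← hJ, ← hq₀] at h2
        exact h2 h1
      obtain ⟨m, hm⟩ := hrad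
      obtain ⟨jj, hjj, κ, hκ, hjκ⟩ := Submodule.mem_sup.mp hm
      obtain ⟨c₁, ⟨hc₁, hc₂⟩, -⟩ := hpb (f ^ m) jj (by
        rw [map_pow, ← hf₀, ← RingHom.comp_apply, hcomm, RingHom.comp_apply, ← map_pow, ← hjκ, map_add,
          RingHom.mem_ker.mp hκ, add_zero])
      let c := f₀ * c₁
      have hψc : ψ c = f ^ (m + 1) := by simp only [c, map_mul, hf₀, hc₁, pow_succ']
      let L := Localization.Away (a (ψ c))
      have hbc : b (θ c) = a (ψ c) := (DFunLike.congr_fun hcomm c).symm
      let lb : Localization.Away (θ c) →+* L := IsLocalization.Away.lift (θ c)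
        (g := (algebraMap Q0 L).comp b) (by
          rw [RingHom.comp_apply, hbc]; exact IsLocalization.Away.algebraMap_isUnit _)
      obtain ⟨α, hα⟩ := exists_factor hU (sp (algebraMap P (Localization.Away (ψ c))) ≫ u) fun z => by
        refine hfU ?_
        have := (Set.ext_iff.mp (PrimeSpectrum.localization_away_comap_range (Localization.Away (ψ c)) (ψ c)) _).mp ⟨z, rfl⟩
        intro hf
        apply this
        refine (congrArg (· ∈ _) hψc).mpr ?_
        exact Ideal.pow_mem_of_mem _ hf _ (Nat.succ_pos m)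
      obtain ⟨β, hβ⟩ := exists_factor hU (sp (algebraMap Q (Localization.Away (θ c))) ≫ h) fun z => by
        have h1 := (Set.ext_iff.mp (PrimeSpectrum.localization_away_comap_range (Localization.Away (θ c)) (θ c)) _).mp ⟨z, rfl⟩
        by_contra hz
        apply h1
        have h2 := hJ.le hz
        refine (congrArg (· ∈ _) (show θ c = θ f₀ * jj by rw [map_mul, hc₂])).mpr ?_
        exact Ideal.mul_mem_left _ _ (h2 hjj)
      have hla : (Localization.awayMap a (ψ c)).comp (algebraMap P _) = (algebraMap Q0 L).comp a := locMap_comp' a (ψ c)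
      have hlb : lb.comp (algebraMap Q _) = (algebraMap Q0 L).comp b := IsLocalization.Away.lift_comp _ _
      have hαβ : ∀ x, Localization.awayMap a (ψ c) (α x) = lb (β x) := by
        intro x
        have e1 : sp (Localization.awayMap a (ψ c)) ≫ sp (algebraMap P _) = sp (algebraMap Q0 L) ≫ sp a := by
          rw [← Spec.map_comp, ← Spec.map_comp, ← CommRingCat.ofHom_comp, ← CommRingCat.ofHom_comp, hla]
        have e2 : sp lb ≫ sp (algebraMap Q _) = sp (algebraMap Q0 L) ≫ sp b := by
          rw [← Spec.map_comp, ← Spec.map_comp, ← CommRingCat.ofHom_comp, ← CommRingCat.ofHom_comp, hlb]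
        have e : sp (Localization.awayMap a (ψ c)) ≫ Spec.map α ≫ hU.fromSpec = sp lb ≫ Spec.map β ≫ hU.fromSpec := by
          rw [hα, hβ, reassoc_of% e1, reassoc_of% e2, hc]
        rw [← Spec.map_comp_assoc, ← Spec.map_comp_assoc] at e
        exact congr($(factor_injective hU e) x)
      have hex : ∀ x, ∃ e : Localization.Away c, locMap ψ c e = α x ∧ locMap θ c e = β x := fun x =>
        exists_lift_of_compat hpb hbc lb hlb (α x) (β x) (hαβ x)
      choose γ hγ using hex
      let γr : Γ(G, U) ⟶ CommRingCat.of (Localization.Away c) := CommRingCat.ofHom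
        { toFun := γ
          map_one' := locMap_injective hpb c (by simp [hγ])
          map_zero' := locMap_injective hpb c (by simp [hγ])
          map_add' := fun x y => locMap_injective hpb c (by simp [hγ])
          map_mul' := fun x y => locMap_injective hpb c (by simp [hγ]) }
      have hoc : IsOpenImmersion (sp (algebraMap C (Localization.Away c))) := IsOpenImmersion.of_isLocalization c
      refine ⟨_, sp (algebraMap C (Localization.Away c)), Spec.map γr ≫ hU.fromSpec, hoc, ?_, ?_, ?_⟩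
      · refine (Set.ext_iff.mp (PrimeSpectrum.localization_away_comap_range (Localization.Away c) c) w).mpr ?_
        rw [← hp₀]
        show ψ c ∉ p₀.asIdeal
        rw [hψc]
        exact fun hx => hpf (p₀.isPrime.mem_of_pow_mem _ hx)
      · refine restrict_eq ψ c u γr (Spec.map α ≫ hU.fromSpec) hα _ ?_
        rw [← Spec.map_comp_assoc]
        congr 2
        exact CommRingCat.hom_ext (RingHom.ext fun x => (hγ x).1)
      · refine restrict_eq θ c h γr (Spec.map β ≫ hU.fromSpec) hβ _ ?_
        rw [← Spec.map_comp_assoc]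
        congr 2
        exact CommRingCat.hom_ext (RingHom.ext fun x => (hγ x).2)
  choose W j g hj hw hgP hgQ using hloc
  let 𝒰 : (Spec (CommRingCat.of C)).OpenCover := Scheme.Cover.mkOfCovers (Spec (CommRingCat.of C)) W j
    (fun w => ⟨w, hw w⟩) hj
  refine ⟨𝒰.glueMorphisms g fun x y => ?_, ?_, ?_⟩
  · have := hj x
    have := hj y
    have hji : IsOpenImmersion (pullback.fst (j x) (j y) ≫ j x) := inferInstance
    refine ext_pieces hpb hb s hθ hker (pullback.fst (j x) (j y) ≫ j x) _ _ ?_ ?_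
    · exact overlap_eq (j x) (j y) (g x) (g y) (sp ψ) u (hgP x) (hgP y)
    · exact overlap_eq (j x) (j y) (g x) (g y) (sp θ) h (hgQ x) (hgQ y)
  · exact restrict_glue 𝒰 g _ (sp ψ) u hgP
  · exact restrict_glue 𝒰 g _ (sp θ) h hgQ

end Groth.Agent.G0Patch
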