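import Groth.Agent.G0Patch.Spread
import Mathlib.RingTheory.Localization.Algebra
import Mathlib.CategoryTheory.Monoidal.Cartesian.Over
import Mathlib.CategoryTheory.Monoidal.Cartesian.Grp

/-!
# G₀(A_{rr'}) = G₀(A_r) G₀(A_{r'})
-/

set_option autoImplicit false

universe u

open CategoryTheory Limits AlgebraicGeometry Polynomial MonoidalCategory CartesianMonoidalCategory MonObj

namespace Groth.Agent.G0Patch

variable {R : Type u} [CommRing R]

/-- `Spec A` over `Spec R`. -/
noncomputable abbrev ov (R A : Type u) [CommRing R] [CommRing A] [Algebra R A] : Over (Spec (CommRingCat.of R)) :=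
  Over.mk (Spec.map (CommRingCat.ofHom (algebraMap R A)))

/-- The morphism of an algebra map. -/
noncomputable abbrev ovMap {A B : Type u} [CommRing A] [CommRing B] [Algebra R A] [Algebra R B] (f : A →ₐ[R] B) :
    ov R B ⟶ ov R A :=
  Over.homMk (sp f.toRingHom) (by
    show Spec.map _ ≫ Spec.map _ = Spec.map _
    rw [← Spec.map_comp, ← CommRingCat.ofHom_comp]
    exact congrArg (fun m => Spec.map (CommRingCat.ofHom m)) f.comp_algebraMap)

theorem ovMap_comp {A B C : Type u} [CommRing A] [CommRing B] [CommRing C] [Algebra R A] [Algebra R B] [Algebra R C]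
    (f : A →ₐ[R] B) (g : B →ₐ[R] C) : ovMap (g.comp f) = ovMap g ≫ ovMap f :=
  Over.OverMorphism.ext (by
    show sp (g.comp f).toRingHom = sp g.toRingHom ≫ sp f.toRingHom
    rw [← Spec.map_comp, ← CommRingCat.ofHom_comp]
    rfl)

theorem isLocalization_away_of_mul {A B : Type u} [CommRing A] [CommRing B] [Algebra R A] [Algebra R B] [Algebra A B]
    [IsScalarTower R A B] (x y : R) [IsLocalization.Away x A] [IsLocalization.Away (y * x) B] :
    IsLocalization.Away (algebraMap R A y) B := by
  let L := Localization.Away (algebraMap R A y)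
  have : IsLocalization.Away (y * x) L := IsLocalization.Away.mul A L x y
  let e : L ≃ₐ[R] B := IsLocalization.algEquiv (Submonoid.powers (y * x)) L B
  have he : (e : L →+* B).comp (algebraMap A L) = algebraMap A B :=
    IsLocalization.ringHom_ext (Submonoid.powers x) (RingHom.ext fun t => by
      simp [← IsScalarTower.algebraMap_apply])
  let e' : L ≃ₐ[A] B := { e with commutes' := fun t => DFunLike.congr_fun he t }
  exact IsLocalization.isLocalization_of_algEquiv (Submonoid.powers (algebraMap R A y)) e'

variable (G : Over (Spec (CommRingCat.of R))) [GrpObj G]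

/-- Substituting `T ↦ X + Y`. -/
noncomputable abbrev subSum (R B : Type u) [CommRing R] [CommRing B] [Algebra R B] : B[X] →ₐ[R] B[X][X] :=
  (aeval (R := B) (C X + X : B[X][X])).restrictScalars R

/-- Substituting `T ↦ X`. -/
noncomputable abbrev subX (R B : Type u) [CommRing R] [CommRing B] [Algebra R B] : B[X] →ₐ[R] B[X][X] :=
  (aeval (R := B) (C X : B[X][X])).restrictScalars R

/-- The cocycle `g(X + Y) g(X)⁻¹` extends after rescaling `Y`. -/
theorem exists_factor_pts [LocallyOfFinitePresentation G.hom] {A B : Type u} [CommRing A] [CommRing B]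
    [Algebra R A] [Algebra R B] [Algebra A B] [IsScalarTower R A B] (s : A) [IsLocalization.Away s B]
    (g : ov R B[X] ⟶ G) :
    ∃ (N : ℕ) (k : ov R A[X][X] ⟶ G),
      ovMap ((aeval (R := A[X]) (0 : A[X])).restrictScalars R) ≫ k = 1 ∧
      ∀ (M : Type u) [CommRing M] [Algebra R M] [Algebra A M] [Algebra B M] [IsScalarTower R A M]
        [IsScalarTower R B M] [IsScalarTower A B M] (x y : M) (σ : A[X][X] →ₐ[R] M),
        (∀ a, σ (C (C a)) = algebraMap A M a) → σ (C X) = x → σ X = y →
        ∀ (α β : B[X] →ₐ[R] M), (∀ b, α (C b) = algebraMap B M b) → α X = x + algebraMap A M s ^ N * y →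
          (∀ b, β (C b) = algebraMap B M b) → β X = x →
          ovMap σ ≫ k = (ovMap α ≫ g) * (ovMap β ≫ g)⁻¹ := by
  letI : Algebra A[X] B[X] := (mapRingHom (algebraMap A B)).toAlgebra
  have : IsLocalization.Away (C s) B[X] := by
    have h := Polynomial.isLocalization (Submonoid.powers s) B
    rwa [Submonoid.map_powers] at h
  have : IsScalarTower R A[X] B[X] := IsScalarTower.of_algebraMap_eq fun r => by
    show C (algebraMap R B r) = Polynomial.map (algebraMap A B) (C (algebraMap R A r))
    rw [map_C, ← IsScalarTower.algebraMap_apply]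
  let h : ov R B[X][X] ⟶ G := (ovMap (subSum R B) ≫ g) * (ovMap (subX R B) ≫ g)⁻¹
  let ev : B[X][X] →ₐ[R] B[X] := (aeval (R := B[X]) (0 : B[X])).restrictScalars R
  have hz : ovMap ev ≫ h = 1 := by
    have e : ev.comp (subSum R B) = ev.comp (subX R B) := by
      refine AlgHom.ext fun f => ?_
      induction f using Polynomial.induction_on' with
      | add p q hp hq => rw [map_add, map_add, hp, hq]
      | monomial n b => simp [ev, ← C_mul_X_pow_eq_monomial]
    simp only [h, MonObj.comp_mul, GrpObj.comp_inv, ← Category.assoc, ← ovMap_comp, e, mul_inv_cancel]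
  have hu : (1 : ov R A[X] ⟶ G).left ≫ G.hom = sp (algebraMap R A[X]) := Over.w _
  have hh : h.left ≫ G.hom = sp (algebraMap R B[X][X]) := Over.w _
  obtain ⟨N, k, hkπ, hk0, hks⟩ := exists_scaled (P := A[X]) (Q0 := B[X]) (C s) G.hom (algebraMap R A[X])
    (1 : ov R A[X] ⟶ G).left hu h.left
    (hh.trans (congrArg (fun m => sp m) (RingHom.ext fun r => by
      show C (algebraMap R B[X] r) = C (algebraMap A[X] B[X] (algebraMap R A[X] r))
      rw [← IsScalarTower.algebraMap_apply]))) (by
      have e1 := congrArg CommaMorphism.left (MonObj.comp_one (ovMap (IsScalarTower.toAlgHom R A[X] B[X])) : _ = (1 : ov R B[X] ⟶ G))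
      have e2 := congrArg CommaMorphism.left hz
      refine e1.trans (e2.symm.trans ?_)
      show sp ev.toRingHom ≫ h.left = _
      congr 2)
  let k' : ov R A[X][X] ⟶ G := Over.homMk k hkπ
  refine ⟨N, k', Over.OverMorphism.ext ?_, ?_⟩
  · refine Eq.trans ?_ hk0
    show sp _ ≫ k = sp _ ≫ k
    congr 2
  intro M _ _ _ _ _ _ _ x y σ hσC hσX hσY α β hαC hαX hβC hβX
  letI : Algebra B[X] M := β.toRingHom.toAlgebra
  let σ' : B[X][X] →ₐ[R] M :=
    { toRingHom := eval₂RingHom β.toRingHom y
      commutes' := fun r => by
        show eval₂ β.toRingHom y (C (algebraMap R B[X] r)) = _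
        rw [eval₂_C]
        exact β.commutes r }
  let sc : B[X][X] →ₐ[R] B[X][X] :=
    { toRingHom := scale (algebraMap A[X] B[X] (C s) ^ N)
      commutes' := fun r => eval₂_C _ _ }
  let bm : A[X][X] →ₐ[R] B[X][X] :=
    { toRingHom := mapRingHom (algebraMap A[X] B[X])
      commutes' := fun r => by
        show Polynomial.map _ (C (algebraMap R A[X] r)) = C (algebraMap R B[X] r)
        rw [map_C, ← IsScalarTower.algebraMap_apply] }
  have hkeq : ovMap bm ≫ k' = ovMap sc ≫ h := Over.OverMorphism.ext hks
  have hσ : σ'.comp bm = σ := by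
    refine AlgHom.ext fun f => ?_
    show eval₂ β.toRingHom y (f.map (algebraMap A[X] B[X])) = σ f
    rw [eval₂_map]
    induction f using Polynomial.induction_on' with
    | add p q hp hq => rw [eval₂_add, map_add, hp, hq]
    | monomial n p =>
      rw [eval₂_monomial, ← C_mul_X_pow_eq_monomial, map_mul, map_pow, hσY]
      congr 1
      show β (p.map (algebraMap A B)) = σ (C p)
      induction p using Polynomial.induction_on' with
      | add p q hp hq => rw [Polynomial.map_add, map_add, C_add, map_add, hp, hq]
      | monomial m a =>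
        rw [Polynomial.map_monomial, ← C_mul_X_pow_eq_monomial, ← C_mul_X_pow_eq_monomial, map_mul, map_pow, hβC, hβX,
          C_mul, C_pow, map_mul, map_pow, hσC, hσX, ← IsScalarTower.algebraMap_apply]
  have hα : (σ'.comp sc).comp (subSum R B) = α ∧ (σ'.comp sc).comp (subX R B) = β := by
    have h1 : ∀ p : B[X], σ' (sc (C p)) = β p := fun p => by
      show eval₂ β.toRingHom y (eval₂ C _ (C p)) = _
      rw [eval₂_C, eval₂_C]
      rfl
    have h2 : σ' (sc X) = algebraMap A M s ^ N * y := by
      show eval₂ β.toRingHom y (eval₂ C _ X) = _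
      rw [eval₂_X, eval₂_mul, eval₂_C, eval₂_X, map_pow]
      show β (Polynomial.map (algebraMap A B) (C s)) ^ N * y = _
      rw [map_C, hβC, ← IsScalarTower.algebraMap_apply]
    constructor <;> refine AlgHom.ext fun f => ?_ <;> induction f using Polynomial.induction_on' with
    | add p q hp hq => rw [map_add, map_add, hp, hq]
    | monomial n b =>
      simp only [← C_mul_X_pow_eq_monomial, map_mul, map_pow, hαC, hαX, hβC, hβX]
      simp [h1, h2, hβC, hβX]
  rw [← hσ, ovMap_comp, Category.assoc, hkeq, ← Category.assoc, ← ovMap_comp]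
  simp only [h, MonObj.comp_mul, GrpObj.comp_inv, ← Category.assoc, ← ovMap_comp, hα.1, hα.2]

/-- The main splitting. -/
theorem exists_split [LocallyOfFinitePresentation G.hom] (r r' : R) (hrr : Ideal.span ({r, r'} : Set R) = ⊤)
    (A A' B : Type u) [CommRing A] [CommRing A'] [CommRing B] [Algebra R A] [Algebra R A'] [Algebra R B]
    [IsLocalization.Away r A] [IsLocalization.Away r' A'] [IsLocalization.Away (r * r') B]
    [Algebra A B] [Algebra A' B] [IsScalarTower R A B] [IsScalarTower R A' B]
    (g : ov R B[X] ⟶ G) (hg : ovMap ((aeval (R := B) (0 : B)).restrictScalars R) ≫ g = 1) :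
    ∃ (g₁ : ov R A[X] ⟶ G) (g₂ : ov R A'[X] ⟶ G),
      ovMap ((aeval (R := A) (0 : A)).restrictScalars R) ≫ g₁ = 1 ∧
      ovMap ((aeval (R := A') (0 : A')).restrictScalars R) ≫ g₂ = 1 ∧
      g = (ovMap (mapAlgHom (IsScalarTower.toAlgHom R A B)) ≫ g₁) *
        (ovMap (mapAlgHom (IsScalarTower.toAlgHom R A' B)) ≫ g₂) := by
  have hA : IsLocalization.Away (r' * r) B := by rwa [mul_comm]
  have := isLocalization_away_of_mul (A := A) (B := B) r r'
  have := isLocalization_away_of_mul (A := A') (B := B) r' r
  obtain ⟨N, k₁, hk₁, hk₁'⟩ := exists_factor_pts G (A := A) (B := B) (algebraMap R A r') g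
  obtain ⟨N', k₂, hk₂, hk₂'⟩ := exists_factor_pts G (A := A') (B := B) (algebraMap R A' r) g
  obtain ⟨c, d, hcd⟩ := Ideal.mem_span_pair.mp ((Ideal.eq_top_iff_one _).mp hrr)
  obtain ⟨a, b, hab⟩ := (show IsCoprime r' r from ⟨d, c, by linear_combination hcd⟩).pow (m := N) (n := N')
  -- substitutions
  let σ (A₀ : Type u) [CommRing A₀] [Algebra R A₀] (x y : A₀[X]) : A₀[X][X] →ₐ[R] A₀[X] :=
    { toRingHom := eval₂RingHom (aeval (R := A₀) x).toRingHom y
      commutes' := fun t => by
        show eval₂ _ y (C (algebraMap R A₀[X] t)) = _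
        rw [eval₂_C]
        exact ((aeval (R := A₀) x).restrictScalars R).commutes t }
  let σA := σ A (C (algebraMap R A (b * r ^ N')) * X) (C (algebraMap R A a) * X)
  let σA' := σ A' 0 (C (algebraMap R A' b) * X)
  refine ⟨ovMap σA ≫ k₁, ovMap σA' ≫ k₂, ?_, ?_, ?_⟩
  · have e : ((aeval (R := A) (0 : A)).restrictScalars R).comp σA =
        ((aeval (R := A) (0 : A)).restrictScalars R).comp ((aeval (R := A[X]) (0 : A[X])).restrictScalars R) := by
      refine AlgHom.ext fun f => ?_
      show aeval (0 : A) (eval₂ (aeval (R := A) _).toRingHom _ f) = aeval (0 : A) (aeval (0 : A[X]) f)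
      induction f using Polynomial.induction_on' with
      | add p q hp hq => rw [eval₂_add, map_add, map_add, map_add, hp, hq]
      | monomial n p =>
        rw [eval₂_monomial, aeval_monomial (R := A[X])]
        show aeval (0 : A) (aeval _ p * _) = aeval (0 : A) (p * _)
        rw [map_mul, map_mul, ← aeval_algHom_apply]
        simp [zero_pow_eq]
        split_ifs <;> simp
    rw [← Category.assoc, ← ovMap_comp, e, ovMap_comp, Category.assoc, hk₁, MonObj.comp_one]
  · have e : ((aeval (R := A') (0 : A')).restrictScalars R).comp σA' =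
        ((aeval (R := A') (0 : A')).restrictScalars R).comp ((aeval (R := A'[X]) (0 : A'[X])).restrictScalars R) := by
      refine AlgHom.ext fun f => ?_
      show aeval (0 : A') (eval₂ (aeval (R := A') _).toRingHom _ f) = aeval (0 : A') (aeval (0 : A'[X]) f)
      induction f using Polynomial.induction_on' with
      | add p q hp hq => rw [eval₂_add, map_add, map_add, map_add, hp, hq]
      | monomial n p =>
        rw [eval₂_monomial, aeval_monomial (R := A'[X])]
        show aeval (0 : A') (aeval _ p * _) = aeval (0 : A') (p * _)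
        rw [map_mul, map_mul, ← aeval_algHom_apply]
        simp [zero_pow_eq]
    rw [← Category.assoc, ← ovMap_comp, e, ovMap_comp, Category.assoc, hk₂, MonObj.comp_one]
  · letI : Algebra A B[X] := ((C : B →+* B[X]).comp (algebraMap A B)).toAlgebra
    letI : Algebra A' B[X] := ((C : B →+* B[X]).comp (algebraMap A' B)).toAlgebra
    have : IsScalarTower R A B[X] := IsScalarTower.of_algebraMap_eq fun t => by
      show C (algebraMap R B t) = C (algebraMap A B (algebraMap R A t))
      rw [← IsScalarTower.algebraMap_apply]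
    have : IsScalarTower R A' B[X] := IsScalarTower.of_algebraMap_eq fun t => by
      show C (algebraMap R B t) = C (algebraMap A' B (algebraMap R A' t))
      rw [← IsScalarTower.algebraMap_apply]
    have : IsScalarTower A B B[X] := IsScalarTower.of_algebraMap_eq fun t => rfl
    have : IsScalarTower A' B B[X] := IsScalarTower.of_algebraMap_eq fun t => rfl
    let β : B[X] →ₐ[R] B[X] := (aeval (R := B) (C (algebraMap R B (b * r ^ N')) * X : B[X])).restrictScalars R
    let β₀ : B[X] →ₐ[R] B[X] := (aeval (R := B) (0 : B[X])).restrictScalars R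
    have f₁ : ovMap (mapAlgHom (IsScalarTower.toAlgHom R A B)) ≫ ovMap σA ≫ k₁ = g * (ovMap β ≫ g)⁻¹ := by
      rw [← Category.assoc, ← ovMap_comp,
        hk₁' B[X] (C (algebraMap R B (b * r ^ N')) * X) (C (algebraMap R B a) * X) _
          (fun c => by simp [σA, σ, ← IsScalarTower.algebraMap_apply]; rfl)
          (by simp [σA, σ, ← IsScalarTower.algebraMap_apply]) (by simp [σA, σ, ← IsScalarTower.algebraMap_apply])
          (AlgHom.id R B[X]) β (fun c => rfl) ?_ (fun c => by simp [β]) (by simp [β])]
      · rw [show ovMap (AlgHom.id R B[X]) = 𝟙 _ from Over.OverMorphism.ext (Spec.map_id _), Category.id_comp]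
      · show X = _
        rw [← IsScalarTower.algebraMap_apply R A B[X]]
        show X = C (algebraMap R B (b * r ^ N')) * X + C (algebraMap R B r') ^ N * (C (algebraMap R B a) * X)
        rw [← _root_.mul_assoc, ← C_pow, ← C_mul, ← add_mul, ← C_add, ← map_pow, ← map_mul, ← map_add,
          show b * r ^ N' + r' ^ N * a = 1 by rw [← hab]; ring, map_one, C_1, _root_.one_mul]
    have f₂ : ovMap (mapAlgHom (IsScalarTower.toAlgHom R A' B)) ≫ ovMap σA' ≫ k₂ = ovMap β ≫ g := by
      rw [← Category.assoc, ← ovMap_comp,
        hk₂' B[X] 0 (C (algebraMap R B b) * X) _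
          (fun c => by simp [σA', σ, ← IsScalarTower.algebraMap_apply]; rfl)
          (by simp [σA', σ]) (by simp [σA', σ, ← IsScalarTower.algebraMap_apply])
          β β₀ (fun c => by simp [β]) ?_ (fun c => by simp [β₀]) (by simp [β₀])]
      · have e : ovMap β₀ ≫ g = 1 := by
          have e' : β₀ = (IsScalarTower.toAlgHom R B B[X]).comp ((aeval (R := B) (0 : B)).restrictScalars R) := by
            refine AlgHom.ext fun f => ?_
            induction f using Polynomial.induction_on' with
            | add p q hp hq => rw [map_add, map_add, hp, hq]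
            | monomial m c => simp [β₀, zero_pow_eq]; split_ifs <;> simp
          rw [e', ovMap_comp, Category.assoc, hg, MonObj.comp_one]
        rw [e, inv_one, _root_.mul_one]
      · show aeval _ X = _
        rw [aeval_X, zero_add, ← IsScalarTower.algebraMap_apply R A' B[X]]
        show _ = C (algebraMap R B r) ^ N' * (C (algebraMap R B b) * X)
        rw [← _root_.mul_assoc, ← C_pow, ← C_mul, ← map_pow, ← map_mul, mul_comm b]
    rw [f₁, f₂, inv_mul_cancel_right]

end Groth.Agent.G0Patch
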