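import Groth.Agent.G0Patch.MilnorGlue
import Mathlib.AlgebraicGeometry.AffineTransitionLimit
import Mathlib.Algebra.Category.Ring.FilteredColimits
import Mathlib.CategoryTheory.Functor.OfSequence
import Mathlib.CategoryTheory.Limits.Types.Filtered
import Mathlib.RingTheory.Polynomial.Basic

/-!
# Rescaling the variable: sections over `P_s[Y]` come from `P[Y]` after `Y ↦ s^N Y`
-/

set_option autoImplicit false

universe u

open CategoryTheory Limits AlgebraicGeometry Polynomial Opposite

namespace Groth.Agent.G0Patch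

variable {P Q0 : Type u} [CommRing P] [CommRing Q0] [Algebra P Q0] (s : P) [IsLocalization.Away s Q0]

variable (P Q0) in
/-- The subring `P ×_{Q₀} Q₀[Y]`. -/
noncomputable def pinched : Subring (P × Q0[X]) :=
  RingHom.eqLocus ((algebraMap P Q0).comp (RingHom.fst P Q0[X])) ((Polynomial.evalRingHom 0).comp (RingHom.snd P Q0[X]))

/-- Scaling the variable by `c`. -/
noncomputable abbrev scale {A : Type u} [CommRing A] (c : A) : A[X] →+* A[X] :=
  Polynomial.eval₂RingHom C (C c * X)

theorem coeff_scale {A : Type u} [CommRing A] (c : A) (f : A[X]) (i : ℕ) :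
    (scale c f).coeff i = f.coeff i * c ^ i := by
  induction f using Polynomial.induction_on' with
  | add f g hf hg => rw [map_add, coeff_add, coeff_add, hf, hg, add_mul]
  | monomial m r =>
    show (eval₂ C (C c * X) (monomial m r)).coeff i = _
    rw [eval₂_monomial, mul_pow, ← C_pow, ← mul_assoc, ← C_mul, coeff_C_mul_X_pow, coeff_monomial]
    by_cases h : i = m
    · subst h; simp
    · rw [if_neg h, if_neg (Ne.symm h), zero_mul]

/-- The map of stage `n` to the pinched ring. -/
noncomputable def stageMap (n : ℕ) : P[X] →+* pinched P Q0 :=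
  RingHom.codRestrict ((Polynomial.evalRingHom 0).prod
    ((scale (IsLocalization.Away.invSelf s ^ n : Q0)).comp (mapRingHom (algebraMap P Q0)))) _ fun f => by
    show algebraMap P Q0 (f.eval 0) = (scale (IsLocalization.Away.invSelf s ^ n : Q0) (f.map (algebraMap P Q0))).eval 0
    rw [← coeff_zero_eq_eval_zero, ← coeff_zero_eq_eval_zero, coeff_scale, pow_zero, mul_one, coeff_map]

theorem invSelf_pow_mul (n k : ℕ) :
    (IsLocalization.Away.invSelf s ^ (n + k) : Q0) * algebraMap P Q0 (s ^ k) = IsLocalization.Away.invSelf s ^ n := by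
  rw [pow_add, mul_assoc, map_pow, ← mul_pow, mul_comm (IsLocalization.Away.invSelf s),
    IsLocalization.Away.mul_invSelf, one_pow, mul_one]

theorem stageMap_scale (n k : ℕ) : (stageMap (Q0 := Q0) s (n + k)).comp (scale (s ^ k)) = stageMap s n := by
  refine RingHom.ext fun f => Subtype.ext (Prod.ext ?_ (Polynomial.ext fun i => ?_))
  · show (scale (s ^ k) f).eval 0 = f.eval 0
    rw [← coeff_zero_eq_eval_zero, ← coeff_zero_eq_eval_zero, coeff_scale, pow_zero, mul_one]
  · show (scale _ ((scale (s ^ k) f).map (algebraMap P Q0))).coeff i = (scale _ (f.map (algebraMap P Q0))).coeff i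
    rw [coeff_scale, coeff_scale, coeff_map, coeff_scale, map_mul, coeff_map, mul_assoc, map_pow, ← mul_pow,
      mul_comm (algebraMap P Q0 (s ^ k)), invSelf_pow_mul]

/-- The stages. -/
noncomputable def stageSeq : ℕ ⥤ CommRingCat.{u} :=
  Functor.ofSequence (fun _ : ℕ => CommRingCat.ofHom (scale s))

theorem stageSeq_succ (n : ℕ) : (stageSeq s).map (homOfLE (Nat.le_add_right n 1)) = CommRingCat.ofHom (scale s) :=
  Functor.ofSequence_map_homOfLE_succ (fun _ : ℕ => CommRingCat.ofHom (scale s)) n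

theorem stageSeq_map (n k : ℕ) (f : P[X]) :
    (stageSeq s).map (homOfLE (Nat.le_add_right n k)) f = scale (s ^ k) f := by
  induction k with
  | zero =>
    show (stageSeq s).map (𝟙 n) f = _
    rw [CategoryTheory.Functor.map_id, pow_zero]
    exact Polynomial.ext fun i => by rw [coeff_scale, one_pow, mul_one]; rfl
  | succ k ih =>
    rw [show homOfLE (Nat.le_add_right n (k + 1)) = homOfLE (Nat.le_add_right n k) ≫ homOfLE (Nat.le_add_right (n + k) 1) from rfl,
      Functor.map_comp, stageSeq_succ]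
    show scale s ((stageSeq s).map (homOfLE (Nat.le_add_right n k)) f) = _
    rw [ih]
    exact Polynomial.ext fun i => by rw [coeff_scale, coeff_scale, coeff_scale, mul_assoc, ← mul_pow, pow_succ]

/-- The pinched ring as a cocone over the stages. -/
noncomputable def stageCocone : Cocone (stageSeq (P := P) s) where
  pt := CommRingCat.of (pinched P Q0)
  ι := NatTrans.ofSequence (fun n => CommRingCat.ofHom (stageMap (Q0 := Q0) s n)) fun n => by
    rw [stageSeq_succ]
    refine CommRingCat.hom_ext (RingHom.ext fun f => ?_)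
    have := DFunLike.congr_fun (stageMap_scale (Q0 := Q0) s n 1) f
    rw [pow_one] at this
    exact this

theorem exists_stageMap_eq (x : pinched P Q0) : ∃ n f, x = stageMap (Q0 := Q0) s n f := by
  obtain ⟨⟨p, q⟩, hx⟩ := x
  have hx' : algebraMap P Q0 p = q.eval 0 := hx
  choose m a ha using fun i => IsLocalization.Away.surj s (q.coeff i)
  let M := (Finset.range (q.natDegree + 1)).sup m
  refine ⟨M, C p + ∑ i ∈ Finset.Icc 1 q.natDegree, C (a i * s ^ (M * i - m i)) * X ^ i, Subtype.ext (Prod.ext ?_ ?_)⟩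
  · show p = eval 0 _
    rw [eval_add, eval_C, eval_finset_sum, Finset.sum_eq_zero, add_zero]
    intro i hi
    rw [eval_mul, eval_pow, eval_X, zero_pow (by have := (Finset.mem_Icc.mp hi).1; omega), mul_zero]
  · show q = scale _ (Polynomial.map (algebraMap P Q0) _)
    refine Polynomial.ext fun i => ?_
    rw [coeff_scale, coeff_map, coeff_add, finset_sum_coeff]
    simp only [coeff_C, coeff_C_mul_X_pow]
    rw [Finset.sum_ite_eq]
    by_cases hi : i = 0
    · subst hi
      rw [if_pos rfl, if_neg (by simp), add_zero, pow_zero, mul_one, hx', coeff_zero_eq_eval_zero]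
    rw [if_neg hi, zero_add]
    by_cases hd : i ≤ q.natDegree
    · rw [if_pos (Finset.mem_Icc.mpr ⟨Nat.one_le_iff_ne_zero.mpr hi, hd⟩), map_mul, ← ha i, ← pow_mul]
      have hm : m i ≤ M * i := le_trans (Finset.le_sup (f := m) (Finset.mem_range.mpr (Nat.lt_succ_of_le hd)))
        (Nat.le_mul_of_pos_right _ (Nat.pos_of_ne_zero hi))
      rw [mul_assoc, mul_assoc, ← map_pow, ← mul_assoc (algebraMap P Q0 (s ^ m i)), ← map_mul, ← pow_add,
        Nat.add_sub_cancel' hm, map_pow, ← mul_pow, IsLocalization.Away.mul_invSelf, one_pow, mul_one]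
    · rw [if_neg (fun h => hd (Finset.mem_Icc.mp h).2), map_zero, zero_mul,
        coeff_eq_zero_of_natDegree_lt (not_le.mp hd)]

theorem exists_scale_eq (n : ℕ) (f g : P[X]) (h : stageMap (Q0 := Q0) s n f = stageMap s n g) :
    ∃ k, scale (s ^ k) f = scale (s ^ k) g := by
  have h1 := congrArg Subtype.val h
  have h0 : f.eval 0 = g.eval 0 := congrArg Prod.fst h1
  have hq : ∀ i, ∃ k, s ^ k * f.coeff i = s ^ k * g.coeff i := fun i => by
    have e := congrArg (fun t : Q0[X] => t.coeff i) (congrArg Prod.snd h1)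
    change (scale _ (f.map _)).coeff i = (scale _ (g.map _)).coeff i at e
    rw [coeff_scale, coeff_scale, coeff_map, coeff_map] at e
    have hu : IsUnit ((IsLocalization.Away.invSelf s ^ n : Q0) ^ i) :=
      ((show IsUnit (IsLocalization.Away.invSelf s : Q0) from ⟨⟨_, algebraMap P Q0 s, by rw [mul_comm]; exact IsLocalization.Away.mul_invSelf s, IsLocalization.Away.mul_invSelf s⟩, rfl⟩).pow _).pow _
    obtain ⟨⟨_, k, rfl⟩, hk⟩ := IsLocalization.exists_of_eq (M := Submonoid.powers s) (hu.mul_left_inj.mp e)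
    exact ⟨k, hk⟩
  choose k hk using hq
  let K := (Finset.range (max f.natDegree g.natDegree + 1)).sup k
  refine ⟨K, Polynomial.ext fun i => ?_⟩
  rw [coeff_scale, coeff_scale, ← pow_mul]
  by_cases hi : i = 0
  · subst hi
    rw [coeff_zero_eq_eval_zero, coeff_zero_eq_eval_zero, h0]
  by_cases hd : i ≤ max f.natDegree g.natDegree
  · have hm : k i ≤ K * i := le_trans (Finset.le_sup (f := k) (Finset.mem_range.mpr (Nat.lt_succ_of_le hd)))
      (Nat.le_mul_of_pos_right _ (Nat.pos_of_ne_zero hi))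
    obtain ⟨d, hd'⟩ := Nat.exists_eq_add_of_le hm
    rw [hd', pow_add, ← mul_assoc, ← mul_assoc, mul_comm (f.coeff i), mul_comm (g.coeff i), hk]
  · rw [coeff_eq_zero_of_natDegree_lt (by omega), coeff_eq_zero_of_natDegree_lt (by omega)]

/-- The stages, indexed in the working universe. -/
noncomputable abbrev stageFun : ULift.{u} ℕ ⥤ CommRingCat.{u} :=
  (show Monotone (ULift.down : ULift.{u} ℕ → ℕ) from fun _ _ h => h).functor ⋙ stageSeq s

/-- The cocone over the stages. -/
noncomputable abbrev stageFunCocone : Cocone (stageFun (P := P) s) :=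
  (stageCocone (Q0 := Q0) s).whisker _

/-- The pinched ring is the colimit of the stages. -/
noncomputable def isColimitStageFunCocone : IsColimit (stageFunCocone (P := P) (Q0 := Q0) s) := by
  have : IsDirectedOrder (ULift.{u} ℕ) := ⟨fun x y => ⟨⟨max x.down y.down⟩, le_max_left _ _, le_max_right _ _⟩⟩
  have : IsFiltered (ULift.{u} ℕ) := isFiltered_of_directed_le_nonempty _
  have : ReflectsColimit (stageFun (P := P) s) (forget CommRingCat.{u}) := reflectsColimit_of_reflectsIsomorphisms _ _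
  refine isColimitOfReflects (forget CommRingCat.{u}) (Types.FilteredColimit.isColimitOf' _ _ (fun x => ?_) ?_)
  · obtain ⟨n, f, hf⟩ := exists_stageMap_eq s x
    exact ⟨⟨n⟩, f, hf⟩
  · intro n f g h
    obtain ⟨k, hk⟩ := exists_scale_eq s n.down f g h
    refine ⟨⟨n.down + k⟩, homOfLE (Nat.le_add_right n.down k), ?_⟩
    exact (stageSeq_map s n.down k f).trans (hk.trans (stageSeq_map s n.down k g).symm)

theorem isLocalization_pinched :
    letI := ((RingHom.snd P Q0[X]).comp (pinched P Q0).subtype).toAlgebra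
    IsLocalization.Away (stageMap (Q0 := Q0) s 0 (C s)) Q0[X] := by
  letI := ((RingHom.snd P Q0[X]).comp (pinched P Q0).subtype).toAlgebra
  have hval : algebraMap (pinched P Q0) Q0[X] (stageMap (Q0 := Q0) s 0 (C s)) = C (algebraMap P Q0 s) := by
    show scale _ ((C s).map (algebraMap P Q0)) = _
    rw [map_C]
    exact eval₂_C _ _
  refine ⟨⟨fun ⟨_, m, rfl⟩ => ?_, fun z => ?_, fun {x y} h => ?_⟩⟩
  · show IsUnit (algebraMap (pinched P Q0) Q0[X] (_ ^ m))
    rw [map_pow, hval]
    exact ((IsLocalization.Away.algebraMap_isUnit s).map C).pow m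
  · obtain ⟨m, a, ha⟩ := IsLocalization.Away.surj s (z.coeff 0)
    refine ⟨⟨⟨(a, z * C (algebraMap P Q0 s) ^ m), ?_⟩, ⟨_, m, rfl⟩⟩, ?_⟩
    · show algebraMap P Q0 a = (z * C (algebraMap P Q0 s) ^ m).eval 0
      rw [eval_mul, eval_pow, eval_C, ← coeff_zero_eq_eval_zero, ha]
    · show z * algebraMap (pinched P Q0) Q0[X] (_ ^ m) = z * C (algebraMap P Q0 s) ^ m
      rw [map_pow, hval]
  · obtain ⟨⟨p, q⟩, hx⟩ := x
    obtain ⟨⟨p', q'⟩, hy⟩ := y
    have hqq : q = q' := h
    subst hqq
    obtain ⟨⟨_, k, rfl⟩, hk⟩ := IsLocalization.exists_of_eq (M := Submonoid.powers s)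
      ((hx : algebraMap P Q0 p = q.eval 0).trans (hy : algebraMap P Q0 p' = q.eval 0).symm)
    refine ⟨⟨_, k, rfl⟩, Subtype.ext (Prod.ext ?_ rfl)⟩
    show (C s).eval 0 ^ k * p = (C s).eval 0 ^ k * p'
    rw [eval_C]
    exact hk

theorem ker_le_of_mem (w : PrimeSpectrum (pinched P Q0)) (hw : stageMap (Q0 := Q0) s 0 (C s) ∈ w.asIdeal) :
    RingHom.ker ((RingHom.fst P Q0[X]).comp (pinched P Q0).subtype) ≤ w.asIdeal := by
  rintro ⟨⟨p, q⟩, hx⟩ h
  have hp : p = 0 := h
  subst hp
  have hq : q.eval 0 = 0 := (show q.eval 0 = algebraMap P Q0 0 from hx.symm).trans (map_zero _)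
  have hmem : ((0 : P), C (IsLocalization.Away.invSelf s) * q) ∈ pinched P Q0 := by
    show algebraMap P Q0 (0 : P) = (C (IsLocalization.Away.invSelf s) * q).eval 0
    rw [map_zero, eval_mul, hq, mul_zero]
  have e : (⟨(0, q), hx⟩ : pinched P Q0) =
      stageMap (Q0 := Q0) s 0 (C s) * ⟨(0, C (IsLocalization.Away.invSelf s) * q), hmem⟩ := by
    refine Subtype.ext (Prod.ext (mul_zero _).symm ?_)
    show q = scale _ ((C s).map (algebraMap P Q0)) * (C (IsLocalization.Away.invSelf s) * q)
    rw [map_C]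
    show q = eval₂ C _ (C _) * _
    rw [eval₂_C, ← mul_assoc, ← C_mul, IsLocalization.Away.mul_invSelf, C_1, one_mul]
  rw [e]
  exact w.asIdeal.mul_mem_right _ hw

/-- The main rescaling statement. -/
theorem exists_scaled {X : Scheme.{u}} {R : Type u} [CommRing R] (π : X ⟶ Spec (CommRingCat.of R))
    [LocallyOfFinitePresentation π] (ρ : R →+* P) (u : Spec (CommRingCat.of P) ⟶ X) (hu : u ≫ π = sp ρ)
    (h : Spec (CommRingCat.of Q0[X]) ⟶ X) (hh : h ≫ π = sp ((C.comp (algebraMap P Q0)).comp ρ))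
    (hc : sp (algebraMap P Q0) ≫ u = sp (Polynomial.evalRingHom (0 : Q0)) ≫ h) :
    ∃ (N : ℕ) (g : Spec (CommRingCat.of P[X]) ⟶ X), g ≫ π = sp ((C : P →+* P[X]).comp ρ) ∧
      sp (Polynomial.evalRingHom (0 : P)) ≫ g = u ∧
      sp (mapRingHom (algebraMap P Q0)) ≫ g = sp (scale (algebraMap P Q0 s ^ N)) ≫ h := by
  let ψ := (RingHom.fst P Q0[X]).comp (pinched P Q0).subtype
  let θ := (RingHom.snd P Q0[X]).comp (pinched P Q0).subtype
  have hψs : ψ (stageMap (Q0 := Q0) s 0 (C s)) = s := eval_C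
  have hpb : ∀ p q, algebraMap P Q0 p = Polynomial.evalRingHom (0 : Q0) q → ∃! c, ψ c = p ∧ θ c = q :=
    fun p q e => ⟨⟨(p, q), show (p, q) ∈ pinched P Q0 from e⟩, ⟨rfl, rfl⟩, fun c hc' => Subtype.ext (Prod.ext hc'.1 hc'.2)⟩
  have hb : Function.Surjective (Polynomial.evalRingHom (0 : Q0)) := fun q => ⟨C q, eval_C⟩
  obtain ⟨gC, hgP, hgQ⟩ := exists_glue (ψ := ψ) (θ := θ) (a := algebraMap P Q0) (b := Polynomial.evalRingHom (0 : Q0))
    hpb hb (RingHom.ext fun c => c.2) (stageMap (Q0 := Q0) s 0 (C s)) (isLocalization_pinched s)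
    (ker_le_of_mem s) (by rw [hψs, Algebra.algebra_ext (algebraMap P Q0).toAlgebra ‹Algebra P Q0› fun _ => rfl]; infer_instance)
    u h hc
  have hιC : ∀ n, (stageMap (Q0 := Q0) s n).comp C = (stageMap (Q0 := Q0) s 0).comp C := fun n => by
    refine RingHom.ext fun p => Subtype.ext (Prod.ext rfl ?_)
    show scale _ ((C p).map (algebraMap P Q0)) = scale _ ((C p).map (algebraMap P Q0))
    rw [map_C]
    exact (eval₂_C _ _).trans (eval₂_C _ _).symm
  have hgπ : gC ≫ π = sp (((stageMap (Q0 := Q0) s 0).comp C).comp ρ) := by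
    refine ext_pieces hpb hb (stageMap (Q0 := Q0) s 0 (C s)) (isLocalization_pinched s) (ker_le_of_mem s)
      (𝟙 _) _ _ ?_ ?_
    · have hf : pullback.fst (𝟙 _) (sp ψ) = pullback.snd (𝟙 _) (sp ψ) ≫ sp ψ := by
        rw [← pullback.condition, Category.comp_id]
      rw [hf, Category.assoc, Category.assoc, reassoc_of% hgP, hu, ← Spec.map_comp, ← CommRingCat.ofHom_comp]
      refine congrArg (fun m => pullback.snd _ _ ≫ sp m) ?_
      exact RingHom.ext fun r => (eval_C (x := (0 : P))).symm
    · have hf : pullback.fst (𝟙 _) (sp θ) = pullback.snd (𝟙 _) (sp θ) ≫ sp θ := by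
        rw [← pullback.condition, Category.comp_id]
      rw [hf, Category.assoc, Category.assoc, reassoc_of% hgQ, hh, ← Spec.map_comp, ← CommRingCat.ofHom_comp]
      refine congrArg (fun m => pullback.snd _ _ ≫ sp m) ?_
      refine RingHom.ext fun r => ?_
      show C (algebraMap P Q0 (ρ r)) = scale _ ((C (ρ r)).map (algebraMap P Q0))
      rw [map_C]
      exact (eval₂_C _ _).symm
  let J := ULift.{u} ℕ
  let F : J ⥤ CommRingCat.{u} := stageFun s
  let cc : Cocone F := stageFunCocone (Q0 := Q0) s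
  have hcc : IsColimit cc := isColimitStageFunCocone s
  let D : Jᵒᵖ ⥤ Scheme.{u} := F.op ⋙ Scheme.Spec
  let c : Cone D := Scheme.Spec.mapCone cc.op
  have hc' : IsLimit c := isLimitOfPreserves Scheme.Spec hcc.op
  let t : D ⟶ (Functor.const _).obj (Spec (CommRingCat.of R)) :=
    { app := fun _ => sp ((C : P →+* P[X]).comp ρ)
      naturality := fun i j φ => by
        obtain ⟨⟨i⟩⟩ := i
        obtain ⟨⟨j⟩⟩ := j
        obtain ⟨k, rfl⟩ := Nat.exists_eq_add_of_le (show j ≤ i from φ.unop.down.down)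
        refine Eq.trans ?_ (Category.comp_id _).symm
        show Spec.map ((stageSeq s).map (homOfLE (Nat.le_add_right j k))) ≫ sp _ = sp _
        refine (Spec.map_comp _ _).symm.trans ?_
        refine congrArg Spec.map (CommRingCat.hom_ext (RingHom.ext fun r => ?_))
        show (stageSeq s).map (homOfLE (Nat.le_add_right j k)) (C (ρ r)) = C (ρ r)
        rw [stageSeq_map]
        exact eval₂_C _ _ }
  have : ∀ i, CompactSpace (D.obj i) := fun i => inferInstanceAs (CompactSpace (PrimeSpectrum _))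
  have : ∀ i, QuasiSeparatedSpace (D.obj i) := fun i => inferInstanceAs (QuasiSeparatedSpace (Spec _))
  have : ∀ {i j} (f : i ⟶ j), IsAffineHom (D.map f) := fun {i j} f => inferInstanceAs (IsAffineHom (Spec.map _))
  obtain ⟨⟨⟨N⟩⟩, g, hg, hgt⟩ := Scheme.exists_π_app_comp_eq_of_locallyOfFinitePresentation D t π c hc' gC (by
    refine NatTrans.ext (funext fun ⟨⟨n⟩⟩ => ?_)
    show sp (stageMap (Q0 := Q0) s n) ≫ sp ((C : P →+* P[X]).comp ρ) = gC ≫ π
    rw [hgπ, ← Spec.map_comp, ← CommRingCat.ofHom_comp, ← RingHom.comp_assoc, hιC])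
  refine ⟨N, g, hgt, ?_, ?_⟩
  · rw [← hgP, ← hg]
    show _ = sp ψ ≫ sp (stageMap (Q0 := Q0) s N) ≫ g
    rw [← Spec.map_comp_assoc, ← CommRingCat.ofHom_comp]
    rfl
  · rw [← hgQ, ← hg]
    show _ = sp _ ≫ sp θ ≫ sp (stageMap (Q0 := Q0) s N) ≫ g
    rw [← Spec.map_comp_assoc, ← Spec.map_comp_assoc, ← CommRingCat.ofHom_comp, ← CommRingCat.ofHom_comp]
    congr 3
    refine RingHom.ext fun f => Polynomial.ext fun i => ?_
    show _ = (scale (algebraMap P Q0 s ^ N) (scale _ (f.map (algebraMap P Q0)))).coeff i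
    rw [coeff_scale, coeff_scale, mul_assoc, ← mul_pow, ← mul_pow, mul_comm (IsLocalization.Away.invSelf s),
      IsLocalization.Away.mul_invSelf, one_pow, one_pow, mul_one]
    rfl

end Groth.Agent.G0Patch
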